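import Mathlib.AlgebraicGeometry.Morphisms.Affine
import Groth.Prelude.Def_AlgSpCov
import Groth.Agent.AlgSpLib.EtLocalInst
import Groth.Agent.AlgSpLib.Descends

/-!
# Etale local properties stable under flat base change only
-/

set_option autoImplicit false
set_option backward.isDefEq.respectTransparency false
set_option backward.isDefEq.respectTransparency.types false

universe u

open CategoryTheory CategoryTheory.Limits AlgebraicGeometry Opposite AlgSp Groth.Agent.AlgSpLib

namespace Groth.Agent.RegKinds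

/-- A property stable under flat base change and etale local on the source and target. -/
class IsEtLocalF (P : MorphismProperty Scheme.{u}) : Prop extends P.RespectsIso where
  preEt : ∀ {X Y Z : Scheme.{u}} (f : X ⟶ Y) (g : Y ⟶ Z), Etale f → P g → P (f ≫ g)
  postEt : ∀ {X Y Z : Scheme.{u}} (f : X ⟶ Y) (g : Y ⟶ Z), P f → Etale g → P (f ≫ g)
  of_precomp : ∀ {X Y Z : Scheme.{u}} (f : X ⟶ Y) (g : Y ⟶ Z), Etale f → Surjective f → P (f ≫ g) → P g
  flat_bc : ∀ {X' X Y' Y : Scheme.{u}} {g' : X' ⟶ X} {f' : X' ⟶ Y'} {f : X ⟶ Y} {g : Y' ⟶ Y},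
    IsPullback g' f' f g → Flat g → P f → P f'

theorem IsEtLocalF.cancel_right {P : MorphismProperty Scheme.{u}} [IsEtLocalF P] {X Y Z : Scheme.{u}}
    (f : X ⟶ Y) (g : Y ⟶ Z) [Etale g] (h : P (f ≫ g)) : P f := by
  have h1 : Etale (pullback.lift (𝟙 X) f (by simp) : X ⟶ pullback (f ≫ g) g) :=
    MorphismProperty.of_isPullback (pullback_lift_diagonal_isPullback f g)
      (inferInstanceAs (Etale (pullback.diagonal g)))
  have h2 : P (pullback.snd (f ≫ g) g) :=
    IsEtLocalF.flat_bc (IsPullback.of_hasPullback (f ≫ g) g) inferInstance h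
  have h3 := IsEtLocalF.preEt _ _ h1 h2
  rwa [pullback.lift_snd] at h3

variable {S : Scheme.{u}} {F G : Sp S} {P : MorphismProperty Scheme.{u}}

/-- One chart diagram with surjective source chart determines an etale local property. -/
theorem locP_of_chartF [IsEtLocalF P] {f : F ⟶ G} {U V : Over S} {a : (yon S).obj U ⟶ F}
    {b : (yon S).obj V ⟶ G} {h : U ⟶ V} (ha : RepWith @Etale a) (ha' : RepWith @Surjective a)
    (hb : RepWith @Etale b) (w : a ≫ f = (yon S).map h ≫ b) (hP : P h.left) : LocP P f := by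
  intro U' V' a' b' h' ha₁ hb₁ w'
  let p : ha.rep.pullback a' ⟶ U' := ha.rep.snd a'
  let q : ha.rep.pullback a' ⟶ U := ha.rep.fst' a'
  have hp : Etale p.left := ha.property_snd a'
  have hp' : Surjective p.left := ha'.2 a' _ _ (ha.rep.isPullback a')
  have hq : Etale q.left := ha₁.property a _ _ (ha.rep.isPullback' a').flip
  have hw : (yon S).map (p ≫ h') ≫ b' = (yon S).map (q ≫ h) ≫ b := by
    simp only [Functor.map_comp, Category.assoc, ← w, ← w']
    rw [← Category.assoc, ← Category.assoc]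
    congr 1
    exact (ha.rep.w a').symm.trans (by rw [Functor.relativelyRepresentable.map_fst'])
  let k : ha.rep.pullback a' ⟶ hb.rep.pullback b' :=
    hb.rep.lift' (q ≫ h) (p ≫ h') hw.symm
  have hk : P k.left := by
    have he : Etale (hb.rep.fst' b').left := hb₁.property b _ _ (hb.rep.isPullback' b').flip
    apply IsEtLocalF.cancel_right _ (hb.rep.fst' b').left
    rw [← Over.comp_left, Functor.relativelyRepresentable.lift'_fst, Over.comp_left]
    exact IsEtLocalF.preEt _ _ hq hP
  refine IsEtLocalF.of_precomp p.left h'.left hp hp' ?_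
  rw [← Over.comp_left, ← hb.rep.lift'_snd (q ≫ h) (p ≫ h') hw.symm, Over.comp_left]
  exact IsEtLocalF.postEt _ _ hk (hb.property_snd b')

/-- Etale local properties are stable under base change between algebraic spaces. -/
theorem locP_of_isPullbackF [IsEtLocalF P] {F' G' : Sp S} {f : F ⟶ G} {g : G' ⟶ G} {fst : F' ⟶ F}
    {snd : F' ⟶ G'} (sq : IsPullback fst snd f g) (hF : IsAlgSpace F) (hG : IsAlgSpace G)
    (hG' : IsAlgSpace G') (hg : LocP @Flat g) (hf : LocP P f) : LocP P snd := by
  obtain ⟨V, b, hb, hb'⟩ := hG.atlas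
  obtain ⟨U, a₀, h, h1, h2, h3⟩ := exists_chart_over hF hG f b
  obtain ⟨W, c₀, h₁, hc1, hc2, hc3⟩ := exists_chart_over hG' hG g b
  let c := c₀ ≫ pullback.fst g b
  have hc : c ≫ g = (yon S).map h₁ ≫ b := by
    rw [Category.assoc, pullback.condition, ← Category.assoc, hc3]
  have hP : P h.left := hf (a₀ ≫ pullback.fst f b) b h (repWith_comp h1 (repWith_fst f hb)) hb
    (by rw [Category.assoc, pullback.condition, ← Category.assoc, h3])
  let Q := pullback f (c ≫ g)
  let n : Q ⟶ pullback f b := pullback.lift (pullback.fst _ _) (pullback.snd _ _ ≫ (yon S).map h₁)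
    (pullback.condition.trans ((congrArg (pullback.snd f (c ≫ g) ≫ ·) hc).trans (Category.assoc _ _ _).symm))
  have sn : IsPullback n (pullback.snd f (c ≫ g)) (pullback.snd f b) ((yon S).map h₁) := by
    refine IsPullback.of_right ?_ (pullback.lift_snd _ _ _) (IsPullback.of_hasPullback f b)
    rw [pullback.lift_fst, ← hc]
    exact IsPullback.of_hasPullback f (c ≫ g)
  let m : Q ⟶ F' := sq.lift (pullback.fst _ _) (pullback.snd _ _ ≫ c)
    (pullback.condition.trans (Category.assoc _ _ _).symm)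
  have sm : IsPullback m (pullback.snd f (c ≫ g)) snd c := by
    refine IsPullback.of_right ?_ (sq.lift_snd _ _ _) sq
    rw [IsPullback.lift_fst]
    exact IsPullback.of_hasPullback f (c ≫ g)
  have st := IsPullback.of_hasPullback a₀ n
  let X := Limits.pullback h h₁
  have sX : IsPullback ((yon S).map (pullback.fst h h₁)) ((yon S).map (pullback.snd h h₁))
      ((yon S).map h) ((yon S).map h₁) := (IsPullback.of_hasPullback h h₁).map (yon S)
  have sY : IsPullback (pullback.fst a₀ n) (pullback.snd a₀ n ≫ pullback.snd f (c ≫ g))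
      ((yon S).map h) ((yon S).map h₁) := h3 ▸ st.paste_vert sn
  let e := IsPullback.isoIsPullback _ _ sX sY
  let a' : (yon S).obj X ⟶ F' := (e.hom ≫ pullback.snd a₀ n) ≫ m
  have ha' : ∀ (R : MorphismProperty Scheme.{u}) [R.IsStableUnderBaseChange] [R.IsMultiplicative],
      RepWith R a₀ → RepWith R c₀ → RepWith R b → RepWith R a' := fun R _ _ h₀ hc₀ hb₀ =>
    repWith_comp (repWith_comp (repWith_of_isIso R e.hom) (repWith_of_isPullback st h₀))
      (repWith_of_isPullback sm.flip (repWith_comp hc₀ (repWith_fst g hb₀)))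
  haveI : Flat h₁.left := hg c b h₁ (repWith_comp hc1 (repWith_fst g hb)) hb hc
  refine locP_of_chartF (h := pullback.snd h h₁) (ha' _ h1 hc1 hb) (ha' _ h2 hc2 hb')
    (repWith_comp hc1 (repWith_fst g hb)) ?_ (IsEtLocalF.flat_bc
      ((IsPullback.of_hasPullback h h₁).map (Over.forget S)) ‹_› hP)
  calc a' ≫ snd = (e.hom ≫ pullback.snd a₀ n ≫ pullback.snd f (c ≫ g)) ≫ c := by
        simp [a', sm.w]
    _ = (yon S).map (pullback.snd h h₁) ≫ c := by rw [IsPullback.isoIsPullback_hom_snd]

theorem locP_flat_of_etale {e : F ⟶ G} (he : RepWith @Etale e) : LocP @Flat e := by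
  intro U V a b k ha hb w
  have h1 : RepWith @Etale (a ≫ e) := repWith_comp ha he
  rw [w] at h1
  haveI : Etale k.left := (repWith_yon_map_iff _ _).1 (repWith_etale_of_comp _ _ h1 hb)
  infer_instance

theorem locP_etale_comp {E : Sp S} {e : E ⟶ F} {f : F ⟶ G} (he : RepWith @Etale e) (hf : LocP P f) :
    LocP P (e ≫ f) :=
  fun _ _ a b k ha hb w => hf (a ≫ e) b k (repWith_comp ha he) hb (by rw [Category.assoc]; exact w)

/-- The lifts in an fpqc covering can be taken flat. -/
theorem exists_flat_lifting_cover {ι : Type u} {Y : Sp S} {Yi : ι → Sp S} {g : ∀ i, Yi i ⟶ Y}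
    (hY : IsAlgSpace Y) (hYi : ∀ i, IsAlgSpace (Yi i)) (hg : IsFpqcCover Yi g)
    (Z : Over S) (hZ : IsAffine Z.left) (h : (yon S).obj Z ⟶ Y) (hh : LocP @Flat h) :
    ∃ (m : ℕ) (W : Fin m → Over S) (c : ∀ j, W j ⟶ Z),
      (∀ j, IsAffine (W j).left) ∧ (∀ j, Flat (c j).left) ∧
      (∀ z : ↥Z.left, ∃ j, z ∈ Set.range (c j).left) ∧
      ∀ j, ∃ (i : ι) (l : (yon S).obj (W j) ⟶ Yi i), LocP @Flat l ∧ l ≫ g i = (yon S).map (c j) ≫ h := by
  obtain ⟨m, W, c, hW, hc, hsurj, hl⟩ := hg.2 Z hZ h
  choose i l hl using hl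
  have key : ∀ j, ∃ (n : ℕ) (A : Fin n → Over S) (d : ∀ k, A k ⟶ W j),
      (∀ k, IsAffine (A k).left) ∧ (∀ k, Flat (d k).left) ∧
      (∀ w : ↥(W j).left, ∃ k, w ∈ Set.range (d k).left) ∧
      ∀ k, ∃ l' : (yon S).obj (A k) ⟶ Yi (i j), LocP @Flat l' ∧ l' ≫ g (i j) = (yon S).map (d k ≫ c j) ≫ h := by
    intro j
    let t := (yon S).map (c j) ≫ h
    have hP : IsAlgSpace (pullback (g (i j)) t) :=
      isAlgSpace_pullback (hYi _) (IsAlgSpace.yon_obj _) hY _ _
    have ht : LocP @Flat t := locP_comp (IsAlgSpace.yon_obj _) (IsAlgSpace.yon_obj _) hY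
      (locP_of_repWith ((repWith_yon_map_iff _ _).2 (hc j))) hh
    have hfst : LocP @Flat (pullback.fst (g (i j)) t) :=
      locP_of_isPullback (IsPullback.of_hasPullback (g (i j)) t).flip (IsAlgSpace.yon_obj _) hY (hYi _) ht
    have hsnd : LocP @Flat (pullback.snd (g (i j)) t) :=
      locP_of_isPullback (IsPullback.of_hasPullback (g (i j)) t) (hYi _) hY (IsAlgSpace.yon_obj _) (hg.1 _)
    obtain ⟨R, α, hα, hα'⟩ := hP.atlas
    obtain ⟨π, hπ⟩ := (yon S).map_surjective (α ≫ pullback.snd (g (i j)) t)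
    haveI : Flat π.left := hsnd α (𝟙 _) π hα (repWith_id _ _) (by rw [hπ, Category.comp_id])
    let σ : (yon S).obj (W j) ⟶ pullback (g (i j)) t :=
      pullback.lift (l j) (𝟙 _) (by rw [hl, Category.id_comp])
    let R' := hα.rep.pullback σ
    let r : R' ⟶ W j := hα.rep.snd σ
    obtain ⟨ρ, hρ⟩ := (yon S).map_surjective (hα.rep.fst σ)
    haveI : Etale r.left := hα.property_snd σ
    haveI : Surjective r.left := hα'.2 _ _ _ (hα.rep.isPullback σ)
    have hr : ρ ≫ π = r := (yon S).map_injective (by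
      rw [Functor.map_comp, hπ, hρ, ← Category.assoc, hα.rep.w σ, Category.assoc, pullback.lift_snd,
        Category.comp_id])
    have hcov : ∀ w : ↥(W j).left, ∃ (A : R.left.Opens), IsAffineOpen A ∧
        w ∈ r.left '' (ρ.left ⁻¹ᵁ A : R'.left.Opens) := fun w => by
      obtain ⟨r₀, hr₀⟩ := r.left.surjective w
      obtain ⟨A, hA, hrA, -⟩ := exists_isAffineOpen_mem_and_subset (U := (⊤ : R.left.Opens))
        (x := ρ.left r₀) trivial
      exact ⟨A, hA, r₀, hrA, hr₀⟩
    choose A hA hwA using hcov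
    haveI := hW j
    obtain ⟨s, hs⟩ := isCompact_univ.elim_finite_subcover
      (fun w => r.left '' (ρ.left ⁻¹ᵁ A w : R'.left.Opens))
      (fun w => r.left.isOpenMap _ (ρ.left ⁻¹ᵁ A w).isOpen)
      (fun w _ => Set.mem_iUnion.2 ⟨w, hwA w⟩)
    let e := s.equivFin.symm
    let B : Fin s.card → Over S := fun k => Over.mk ((A (e k).1).ι ≫ R.hom)
    let ιB : ∀ k, B k ⟶ R := fun k => Over.homMk (A (e k).1).ι rfl
    refine ⟨s.card, B, fun k => ιB k ≫ π, fun k => hA _, fun k => ?_, fun w => ?_, fun k => ?_⟩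
    · rw [Over.comp_left]
      haveI : Flat (ιB k).left := inferInstanceAs (Flat (A (e k).1).ι)
      infer_instance
    · obtain ⟨v, hv, r₀, hr₀, hr₁⟩ : ∃ v ∈ s, w ∈ r.left '' (ρ.left ⁻¹ᵁ A v : R'.left.Opens) := by
        simpa using hs (Set.mem_univ w)
      obtain ⟨k, hk⟩ := e.surjective ⟨v, hv⟩
      have hk' : (e k).1 = v := congrArg Subtype.val hk
      subst hk'
      refine ⟨k, ⟨ρ.left r₀, hr₀⟩, ?_⟩
      rw [Over.comp_left]
      show π.left ((A (e k).1).ι ⟨ρ.left r₀, hr₀⟩) = w
      rw [← hr₁, ← hr, Over.comp_left]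
      rfl
    · have hB : RepWith @Etale ((yon S).map (ιB k) ≫ α) :=
        repWith_comp ((repWith_yon_map_iff _ _).2 (inferInstanceAs (Etale (A (e k).1).ι))) hα
      refine ⟨((yon S).map (ιB k) ≫ α) ≫ pullback.fst (g (i j)) t, locP_etale_comp hB hfst, ?_⟩
      rw [Category.assoc, pullback.condition, Category.assoc, ← Category.assoc α, ← hπ]
      simp only [Functor.map_comp, Category.assoc, t]
  choose n A d hA hd hsd hld using key
  let e := (Fintype.equivFin (Σ j : Fin m, Fin (n j))).symm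
  refine ⟨_, fun k => A (e k).1 (e k).2, fun k => d (e k).1 (e k).2 ≫ c (e k).1, fun k => hA _ _,
    fun k => ?_, fun z => ?_, fun k => ?_⟩
  · haveI := hd (e k).1 (e k).2
    haveI := hc (e k).1
    rw [Over.comp_left]
    infer_instance
  · obtain ⟨j, w, hw⟩ := hsurj z
    obtain ⟨q, v, hv⟩ := hsd j w
    obtain ⟨k, hk⟩ := e.surjective ⟨j, q⟩
    refine ⟨k, ?_⟩
    show z ∈ Set.range (d (e k).1 (e k).2 ≫ c (e k).1).left
    rw [hk]
    exact ⟨v, by rw [Over.comp_left, Scheme.Hom.comp_apply, hv, hw]⟩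
  · obtain ⟨l', h1, h2⟩ := hld (e k).1 (e k).2
    exact ⟨_, l', h1, h2⟩

/-- A chart of a morphism base changed to a scheme through which the target chart lifts has `P` when the
corresponding base change of the morphism has `P` etale locally. -/
theorem property_pullback_snd_of_liftF [IsEtLocalF P] {X Y Yi Xi : Sp S} {f : X ⟶ Y} {g : Yi ⟶ Y}
    {q : Xi ⟶ X} {p : Xi ⟶ Yi} (sq : IsPullback q p f g) (hYi : IsAlgSpace Yi)
    (hp : LocP P p) (hXi : IsAlgSpace Xi) {U V T : Over S} {a : (yon S).obj U ⟶ X}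
    {b : (yon S).obj V ⟶ Y} {h : U ⟶ V} (ha : RepWith @Etale a) (hb : RepWith @Etale b)
    (w : a ≫ f = (yon S).map h ≫ b) (t : T ⟶ V) (l : (yon S).obj T ⟶ Yi)
    (hlf : LocP @Flat l) (hl : l ≫ g = (yon S).map t ≫ b) : P (pullback.snd h t).left := by
  let Q := pullback p l
  have hQ : LocP P (pullback.snd p l) :=
    locP_of_isPullbackF (IsPullback.of_hasPullback p l) hXi hYi (IsAlgSpace.yon_obj T) hlf hp
  have sQ : IsPullback (pullback.fst p l ≫ q) (pullback.snd p l) f (l ≫ g) :=
    (IsPullback.of_hasPullback p l).paste_horiz sq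
  rw [hl] at sQ
  let n : Q ⟶ pullback f b :=
    pullback.lift (pullback.fst p l ≫ q) (pullback.snd p l ≫ (yon S).map t)
      (sQ.w.trans (Category.assoc _ _ _).symm)
  have sn : IsPullback n (pullback.snd p l) (pullback.snd f b) ((yon S).map t) := by
    refine IsPullback.of_right ?_ (pullback.lift_snd _ _ _) (IsPullback.of_hasPullback f b)
    rw [pullback.lift_fst]
    exact sQ
  let a' : (yon S).obj U ⟶ pullback f b := pullback.lift a ((yon S).map h) w
  have ha' : RepWith @Etale a' := by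
    refine repWith_etale_of_comp a' (pullback.fst f b) ?_ (repWith_fst f hb)
    rw [pullback.lift_fst]
    exact ha
  let k : (yon S).obj (pullback h t) ⟶ Q :=
    sn.lift ((yon S).map (pullback.fst h t) ≫ a') ((yon S).map (pullback.snd h t)) (by
      rw [Category.assoc, pullback.lift_snd, ← Functor.map_comp, ← Functor.map_comp, pullback.condition])
  have st : IsPullback ((yon S).map (pullback.fst h t)) k a' n := by
    refine IsPullback.of_bot ?_ (IsPullback.lift_fst _ _ _ _).symm sn
    rw [IsPullback.lift_snd, pullback.lift_snd]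
    exact (IsPullback.of_hasPullback h t).map (yon S)
  refine hQ k (𝟙 _) (pullback.snd h t) (repWith_of_isPullback st ha') (repWith_id _ T) ?_
  rw [IsPullback.lift_snd, Category.comp_id]

/-- An etale local property which is local on the target and descends along fpqc coverings of schemes is
local on the base in the fpqc topology on algebraic spaces. -/
theorem isLocalOnBase_fpqc_locPF [IsEtLocalF P] [IsZariskiLocalAtTarget P]
    [P.DescendsAlong (@Surjective ⊓ @Flat ⊓ @QuasiCompact)] :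
    IsLocalOnBase (IsFpqcCover (S := S)) (LocP P) := by
  intro ι Y Yi g hY hYi hg X f hX Xi p q hXi sq
  refine ⟨fun hf i => locP_of_isPullbackF (sq i) hX hY (hYi i) (hg.1 i) hf, fun hp => ?_⟩
  obtain ⟨U, V, a, b, h, ha, ha', hb, -, w⟩ := exists_chart hX hY f
  refine locP_of_chartF ha ha' hb w ?_
  rw [IsZariskiLocalAtTarget.iff_of_iSup_eq_top (P := P) _ (iSup_affineOpens_eq_top V.left)]
  intro Z
  let Z₀ : Over S := Over.mk (Z.1.ι ≫ V.hom)
  let ιZ : Z₀ ⟶ V := Over.homMk Z.1.ι rfl
  obtain ⟨m, W, c, hW, hc, hsurj, hl⟩ := exists_flat_lifting_cover hY hYi hg Z₀ Z.2 ((yon S).map ιZ ≫ b)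
    (locP_flat_of_etale (repWith_comp ((repWith_yon_map_iff _ _).2 (show Etale ιZ.left from inferInstanceAs (Etale Z.1.ι))) hb))
  choose i l hlf hl using hl
  have hcov (j : Fin m) :
      P (pullback.snd h.left ((c j).left ≫ Z.1.ι)) := by
    have h1 : P (pullback.snd h (c j ≫ ιZ)).left :=
      property_pullback_snd_of_liftF (sq (i j)) (hYi _) (hp _) (hXi _) ha hb w (c j ≫ ιZ) (l j)
        (hlf j) (by rw [hl, Functor.map_comp, Category.assoc])
    have e : IsPullback (pullback.fst h (c j ≫ ιZ)).left (pullback.snd h (c j ≫ ιZ)).left h.left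
        ((c j).left ≫ Z.1.ι) := (IsPullback.of_hasPullback h (c j ≫ ιZ)).map (Over.forget S)
    rw [← e.isoPullback_hom_snd] at h1
    exact (P.cancel_left_of_respectsIso e.isoPullback.hom _).1 h1
  let C : (∐ fun j => (W j).left) ⟶ Z.1 := Sigma.desc fun j => (c j).left
  have : Surjective C := ⟨fun z => by
    obtain ⟨j, y, hy⟩ := hsurj z
    exact ⟨Sigma.ι (fun j => (W j).left) j y,
      by rw [← Scheme.Hom.comp_apply, Sigma.ι_desc]; exact hy⟩⟩
  have : Flat C := by
    rw [IsZariskiLocalAtSource.iff_of_openCover (P := @Flat) (sigmaOpenCover _)]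
    intro j
    rw [sigmaOpenCover_f, Sigma.ι_desc]
    exact hc j
  have : IsAffine (Z.1 : Scheme.{u}) := Z.2
  have := hW
  have hsq := isPullback_morphismRestrict h.left Z.1
  refine MorphismProperty.of_pullback_snd_of_descendsAlong (P := P)
    (Q := @Surjective ⊓ @Flat ⊓ @QuasiCompact) (g := C) ⟨⟨‹_›, ‹_›⟩, inferInstance⟩ ?_
  rw [IsZariskiLocalAtTarget.iff_of_openCover (P := P) (sigmaOpenCover _)]
  intro j
  have h2 := hcov j
  have s1 := ((IsPullback.of_hasPullback (pullback.snd (h.left ∣_ Z.1) C)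
      ((sigmaOpenCover fun j => (W j).left).f j)).paste_horiz
    (IsPullback.of_hasPullback (h.left ∣_ Z.1) C)).paste_horiz hsq.flip
  rw [show (sigmaOpenCover fun j => (W j).left).f j ≫ C = (c j).left by
    rw [sigmaOpenCover_f, Sigma.ι_desc]] at s1
  refine (P.cancel_left_of_respectsIso s1.isoPullback.inv _).1 ?_
  rw [Scheme.Cover.pullbackHom, s1.isoPullback_inv_snd]
  exact h2

end Groth.Agent.RegKinds
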