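import Groth.Agent.RegKinds.FPQC
import Groth.Agent.EtFound.LiftEtale
import Groth.Agent.SrcDescent.SchemeSmooth
import Groth.Agent.CurvLocusLib.LocP
import Groth.Agent.S8656
import Groth.Agent.S8661

/-!
# Koszul morphisms descend along etale surjections on the source
-/

set_option autoImplicit false
set_option linter.style.haveILetI false
set_option backward.isDefEq.respectTransparency.types false

universe u

open CategoryTheory CategoryTheory.Limits AlgebraicGeometry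

namespace Groth.Agent.RegKinds

theorem exists_closedImmersion_smooth {U V : Scheme.{u}} (h : U ⟶ V) [LocallyOfFiniteType h] (x : U) :
    ∃ (U₀ : U.Opens) (P : Scheme.{u}) (i : (U₀ : Scheme.{u}) ⟶ P) (π : P ⟶ V), x ∈ U₀ ∧ IsClosedImmersion i ∧
      Smooth π ∧ i ≫ π = U₀.ι ≫ h := by
  obtain ⟨W, hW, hxW, -⟩ := exists_isAffineOpen_mem_and_subset (U := (⊤ : V.Opens)) (x := h x) trivial
  obtain ⟨U₀, hU₀, hxU, hle⟩ := exists_isAffineOpen_mem_and_subset (U := h ⁻¹ᵁ W) (x := x) hxW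
  have hft : (h.appLE W U₀ hle).hom.FiniteType :=
    HasRingHomProperty.appLE @LocallyOfFiniteType h ‹_› ⟨W, hW⟩ ⟨U₀, hU₀⟩ hle
  algebraize [(h.appLE W U₀ hle).hom]
  obtain ⟨n, φ, hφ⟩ := Algebra.FiniteType.iff_quotient_mvPolynomial''.1 ‹Algebra.FiniteType Γ(V, W) Γ(U, U₀)›
  let A : CommRingCat.{u} := CommRingCat.of (MvPolynomial (Fin n) Γ(V, W))
  let c : Γ(V, W) ⟶ A := CommRingCat.ofHom MvPolynomial.C
  let ψ : A ⟶ Γ(U, U₀) := CommRingCat.ofHom φ.toRingHom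
  have hcψ : c ≫ ψ = h.appLE W U₀ hle := by
    ext r
    exact φ.commutes r
  have hci : IsClosedImmersion (Spec.map ψ) := IsClosedImmersion.spec_of_surjective ψ hφ
  have hsm : Smooth (Spec.map c) := by
    rw [HasRingHomProperty.Spec_iff (P := @Smooth)]
    exact RingHom.smooth_algebraMap.2 (⟨inferInstance, inferInstance⟩ : Algebra.Smooth Γ(V, W) (MvPolynomial (Fin n) Γ(V, W)))
  refine ⟨U₀, Spec A, hU₀.isoSpec.hom ≫ Spec.map ψ, Spec.map c ≫ hW.fromSpec, hxU, inferInstance, inferInstance, ?_⟩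
  rw [Category.assoc, ← Category.assoc (Spec.map ψ), ← Spec.map_comp, hcψ,
    IsAffineOpen.SpecMap_appLE_fromSpec h hW hU₀ hle, ← Category.assoc, hU₀.isoSpec_hom_fromSpec]

theorem forall_isKoszulAt_of_etale_precomp {U' U V : Scheme.{u}} (e : U' ⟶ U) (h : U ⟶ V) [Etale e] [Surjective e]
    (hh : ∀ x, Synt.IsKoszulAt (e ≫ h) x) (x : U) : Synt.IsKoszulAt h x := by
  haveI : LocallyOfFiniteType (e ≫ h) := by
    refine (IsZariskiLocalAtSource.iff_of_openCover (P := @LocallyOfFiniteType)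
      (Scheme.openCoverOfIsOpenCover U' (fun y : U' => (hh y).choose)
        (TopologicalSpace.IsOpenCover.mk (top_le_iff.1 fun y _ => TopologicalSpace.Opens.mem_iSup.2
          ⟨y, (hh y).choose_spec.choose_spec.choose_spec.choose_spec.1⟩)))).2 fun y => ?_
    exact (hh y).choose_spec.choose_spec.choose_spec.choose_spec.2.1
  haveI : LocallyOfFiniteType h := SrcDescent.locallyOfFiniteType_of_smooth_comp e h ‹_›
  obtain ⟨U₀, P, i, π, hxU, hi, hπ, hiπ⟩ := exists_closedImmersion_smooth h x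
  obtain ⟨u', hu'⟩ := e.surjective x
  have hu₀ : u' ∈ e ⁻¹ᵁ U₀ := by
    show e u' ∈ U₀
    rw [hu']
    exact hxU
  haveI := hi
  haveI := hπ
  haveI : Etale (e ∣_ U₀) := IsZariskiLocalAtTarget.restrict ‹Etale e› U₀
  obtain ⟨Ve, k, hk, hko, hku⟩ := EtFound.exists_etale_lift i (e ∣_ U₀) ⟨u', hu₀⟩
  haveI := hko
  haveI : Etale Ve.hom := Ve.prop
  let i' := pullback.fst Ve.hom i
  have hlci : ∀ y, Synt.IsKoszulAt (i' ≫ Ve.hom ≫ π) y := by
    have e1 : i' ≫ Ve.hom ≫ π = (k ≫ (e ⁻¹ᵁ U₀).ι) ≫ (e ≫ h) := by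
      show pullback.fst Ve.hom i ≫ Ve.hom ≫ π = _
      rw [← Category.assoc, pullback.condition, Category.assoc, hiπ, ← hk, Category.assoc, Category.assoc,
        ← Category.assoc (e ∣_ U₀), morphismRestrict_ι, Category.assoc]
    rw [e1]
    exact S8661.result _ _ (fun y => CurvLocusLib.isKoszulAt_of_smooth _ y) hh
  have hreg := S8656.result (i' ≫ Ve.hom ≫ π) hlci (Ve.hom ≫ π) i' rfl
  haveI : UniversallyOpen Ve.hom := inferInstance
  let Ω : P.Opens := ⟨Set.range Ve.hom, Ve.hom.isOpenMap.isOpen_range⟩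
  let g : Ve.left ⟶ (Ω : Scheme.{u}) := IsOpenImmersion.lift Ω.ι Ve.hom (by
    rw [Scheme.Opens.range_ι]; rfl)
  have hg : g ≫ Ω.ι = Ve.hom := IsOpenImmersion.lift_fac _ _ _
  haveI : Etale g := by
    have : Etale (g ≫ Ω.ι) := by rw [hg]; infer_instance
    exact AlgebraicGeometry.Etale.of_comp g Ω.ι
  haveI : Surjective g := ⟨fun y => by
    obtain ⟨v, hv⟩ := y.2
    refine ⟨v, Subtype.ext ?_⟩
    have := congrArg (fun f : Ve.left ⟶ P => f v) hg
    exact this.trans hv⟩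
  let iΩ := i ∣_ Ω
  have hr : Set.range (pullback.snd Ve.hom i) ⊆ Set.range (i ⁻¹ᵁ Ω).ι := by
    rintro _ ⟨y, rfl⟩
    rw [Scheme.Opens.range_ι]
    exact ⟨i' y, congrArg (fun f : _ ⟶ P => f y) (pullback.condition (f := Ve.hom) (g := i))⟩
  let g' := IsOpenImmersion.lift (i ⁻¹ᵁ Ω).ι (pullback.snd Ve.hom i) hr
  have hg' : g' ≫ (i ⁻¹ᵁ Ω).ι = pullback.snd Ve.hom i := IsOpenImmersion.lift_fac _ _ _
  have sq : IsPullback g' i' iΩ g := by
    refine IsPullback.of_right ?_ ?_ (isPullback_morphismRestrict i Ω).flip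
    · rw [hg', hg]
      exact (IsPullback.of_hasPullback Ve.hom i).flip
    · rw [← cancel_mono Ω.ι, Category.assoc, Category.assoc, morphismRestrict_ι, hg, ← Category.assoc, hg']
      exact pullback.condition.symm
  have hΩ : RegImm.IsRegularImmersion .koszul iΩ :=
    isRegularImmersion_of_open (by simp) iΩ g g.isOpenMap i' g' sq hreg
  let j : ((i ⁻¹ᵁ Ω : (U₀ : Scheme.{u}).Opens) : Scheme.{u}) ⟶ U := (i ⁻¹ᵁ Ω).ι ≫ U₀.ι
  refine ⟨j.opensRange, Ω, j.isoOpensRange.inv ≫ iΩ, Ω.ι ≫ π, ?_, inferInstance, ?_, inferInstance, ?_⟩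
  · obtain ⟨w, hw⟩ := hku
    refine ⟨g' w, ?_⟩
    show U₀.ι ((i ⁻¹ᵁ Ω).ι (g' w)) = x
    rw [show (i ⁻¹ᵁ Ω).ι (g' w) = pullback.snd Ve.hom i w from congrArg (fun f : _ ⟶ (U₀ : Scheme.{u}) => f w) hg',
      show pullback.snd Ve.hom i w = (e ∣_ U₀) (k w) from (congrArg (fun f : _ ⟶ (U₀ : Scheme.{u}) => f w) hk).symm]
    show U₀.ι ((e ∣_ U₀) (k.base w)) = x
    rw [hw]
    have h3 := congrArg (fun f : (e ⁻¹ᵁ U₀).toScheme ⟶ U => f ⟨u', hu₀⟩) (morphismRestrict_ι e U₀)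
    exact h3.trans hu'
  · exact isRegularImmersion_baseChange_all (g := 𝟙 _) (g' := j.isoOpensRange.inv) (i := iΩ)
      (IsPullback.of_horiz_isIso ⟨by simp⟩) hΩ
  · rw [Category.assoc, ← Category.assoc iΩ, morphismRestrict_ι, Category.assoc, hiπ, ← Category.assoc,
      ← Category.assoc]
    congr 1
    rw [Category.assoc]
    exact j.isoOpensRange_inv_comp

end Groth.Agent.RegKinds
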