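import Groth.Prelude.Def_AlgSpMor6
import Groth.Agent.RegKinds.FlatEtLocal
import Groth.Agent.RegKinds.LCIDescent
import Groth.Agent.AlgSpLib.LargestOpen
import Groth.Agent.KRegLib.BaseChange
import Groth.Agent.AlgSpDec.LimOpen

/-!
# Being Koszul near a point of an algebraic space, on charts
-/

set_option autoImplicit false
set_option linter.style.haveILetI false
set_option backward.isDefEq.respectTransparency false
set_option backward.isDefEq.respectTransparency.types false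

universe u

open CategoryTheory CategoryTheory.Limits AlgebraicGeometry AlgSp Groth.Agent.AlgSpLib

namespace Groth.Agent.RegKinds

theorem lci_eq_isLCI' : AlgSp.lci.{u} = KRegLib.IsLCI'.{u} := by
  ext X Y f
  exact KRegLib.forall_isKoszulAt_iff f

instance isEtLocalF_isLCI' : IsEtLocalF (KRegLib.IsLCI'.{u}) where
  preEt f g _ hg := (KRegLib.forall_isKoszulAt_iff _).1
    (S8661.result f g (fun y => CurvLocusLib.isKoszulAt_of_smooth f y) ((KRegLib.forall_isKoszulAt_iff g).2 hg))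
  postEt f g hf _ := (KRegLib.forall_isKoszulAt_iff _).1
    (S8661.result f g ((KRegLib.forall_isKoszulAt_iff f).2 hf) (fun y => CurvLocusLib.isKoszulAt_of_smooth g y))
  of_precomp f g _ _ h := (KRegLib.forall_isKoszulAt_iff _).1
    (forall_isKoszulAt_of_etale_precomp f g ((KRegLib.forall_isKoszulAt_iff _).2 h))
  flat_bc hc _ hf := KRegLib.isLCI'_of_isPullback hc hf

theorem isKoszulAt_of_open {X Y : Scheme.{u}} {f : X ⟶ Y} (U : X.Opens) (x : ↥U)
    (h : Synt.IsKoszulAt (U.ι ≫ f) x) : Synt.IsKoszulAt f x.1 := by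
  obtain ⟨U₁, P, i, π, hx, hlft, hi, hπ, hiπ⟩ := h
  let j : (U₁ : Scheme.{u}) ⟶ X := U₁.ι ≫ U.ι
  refine ⟨j.opensRange, P, j.isoOpensRange.inv ≫ i, π, ⟨⟨x, hx⟩, rfl⟩, ?_, ?_, hπ, ?_⟩
  · have e : j.opensRange.ι ≫ f = j.isoOpensRange.inv ≫ U₁.ι ≫ U.ι ≫ f := by
      rw [← Category.assoc U₁.ι, ← Category.assoc j.isoOpensRange.inv, Scheme.Hom.isoOpensRange_inv_comp]
    rw [e]
    exact (MorphismProperty.cancel_left_of_respectsIso @LocallyOfFiniteType _ _).2 hlft
  · exact isRegularImmersion_baseChange_all (g := 𝟙 _) (g' := j.isoOpensRange.inv) (i := i)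
      (IsPullback.of_horiz_isIso ⟨by simp⟩) hi
  · rw [Category.assoc, hiπ, ← Category.assoc U₁.ι, ← Category.assoc, Scheme.Hom.isoOpensRange_inv_comp]

theorem exists_lci_nhd {X Y : Scheme.{u}} {f : X ⟶ Y} {x : X} (h : Synt.IsKoszulAt f x) :
    ∃ U : X.Opens, x ∈ U ∧ KRegLib.IsLCI' (U.ι ≫ f) := by
  obtain ⟨U, P, i, π, hx, hlft, hi, hπ, hiπ⟩ := h
  refine ⟨U, hx, (KRegLib.forall_isKoszulAt_iff _).1 fun y =>
    ⟨⊤, P, (⊤ : (U : Scheme.{u}).Opens).ι ≫ i, π, trivial, ?_, ?_, hπ, by rw [Category.assoc, hiπ]⟩⟩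
  · exact IsZariskiLocalAtSource.comp (P := @LocallyOfFiniteType) hlft _
  · haveI : IsIso (⊤ : (U : Scheme.{u}).Opens).ι := by rw [← Scheme.topIso_hom]; infer_instance
    exact isRegularImmersion_baseChange_all (g := 𝟙 _) (g' := (⊤ : (U : Scheme.{u}).Opens).ι) (i := i)
      (IsPullback.of_horiz_isIso ⟨by simp⟩) hi

variable {S : Scheme.{u}}

theorem locPNear_lci_iff {F G : Sp S} (hF : IsAlgSpace F) {f : F ⟶ G} {U V : Over S}
    {a : (yon S).obj U ⟶ F} {b : (yon S).obj V ⟶ G} {h : U ⟶ V} (ha : RepWith @Etale a) (hb : RepWith @Etale b)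
    (w : a ≫ f = (yon S).map h ≫ b) (u : ↥U.left) :
    LocPNear lci f (Points.ofPt a u) ↔ Synt.IsKoszulAt h.left u := by
  constructor
  · rintro ⟨W, j, hj, ⟨w₀, hw₀⟩, hP⟩
    let U₀ := hj.rep.pullback a
    let s : U₀ ⟶ U := hj.rep.snd a
    haveI : IsOpenImmersion s.left := hj.property_snd a
    rw [Points.ofPt_eq_map_ofScheme] at hw₀
    obtain ⟨z, -, hz⟩ := exists_point_of_isPullback (hj.rep.isPullback a) hw₀
    rw [← Points.ofScheme_toScheme U₀ z, Points.map_ofPt, Category.id_comp] at hz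
    have hs : s.left (Points.toScheme U₀ z) = u := ((Points.toScheme_ofPt s _).symm.trans
      (congrArg (Points.toScheme U) hz)).trans (Points.toScheme_ofScheme U u)
    have hfst : RepWith @Etale (hj.rep.fst a) := repWith_of_isPullback (hj.rep.isPullback a).flip ha
    have hL := hP (hj.rep.fst a) b (s ≫ h) hfst hb (by
      rw [← Category.assoc, hj.rep.w a, Category.assoc, w, Functor.map_comp, Category.assoc])
    rw [Over.comp_left] at hL
    have h1 : KRegLib.IsLCI' (s.left.opensRange.ι ≫ h.left) := by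
      rw [← Scheme.Hom.isoOpensRange_inv_comp s.left, Category.assoc,
        (KRegLib.IsLCI'.{u}).cancel_left_of_respectsIso]
      exact (KRegLib.forall_isKoszulAt_iff _).1 hL
    exact isKoszulAt_of_open s.left.opensRange ⟨u, ⟨_, hs⟩⟩ ((KRegLib.forall_isKoszulAt_iff _).2 h1 _)
  · intro hK
    obtain ⟨U₁, hu, hL⟩ := exists_lci_nhd hK
    let U' : Over S := Over.mk (U₁.ι ≫ U.hom)
    let ι : U' ⟶ U := Over.homMk U₁.ι rfl
    have he : RepWith @Etale ((yon S).map ι ≫ a) :=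
      repWith_comp ((repWith_yon_map_iff _ _).2 (inferInstanceAs (Etale U₁.ι))) ha
    obtain ⟨W, j, hW, hj, hr⟩ := AlgSpPts.exists_open_subspace hF (isOpenMap_ofPt he).isOpen_range
    obtain ⟨e, hej⟩ := exists_lift_openImmersion (IsAlgSpace.yon_obj U') hW hF hj ((yon S).map ι ≫ a) (by
      rintro _ ⟨z, rfl⟩
      rw [hr, ← Points.ofScheme_toScheme U' z, ← Points.ofPt_eq_map_ofScheme]
      exact ⟨_, rfl⟩)
    haveI : Mono j := AlgSpDec.mono_of_openImmersion hj
    have he' : RepWith @Etale e := repWith_etale_of_comp e j (by rw [hej]; exact he)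
      (repWith_mono (P := @IsOpenImmersion) (Q := @Etale)
        (fun _ _ f (_ : IsOpenImmersion f) => inferInstanceAs (Etale f)) _ hj)
    have hes : RepWith @Surjective e := repWith_surjective_of_surjective he'.1 fun y => by
      obtain ⟨v, hv⟩ := hr.le ⟨y, rfl⟩
      refine ⟨Points.ofScheme U' v, AlgSpDec.injective_points_map_of_mono j ?_⟩
      rw [← Points.map_comp, hej, ← Points.ofPt_eq_map_ofScheme]
      exact hv
    refine ⟨W, j, hj, hr.ge ⟨⟨u, hu⟩, ?_⟩, ?_⟩
    · rw [ofPt_comp]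
      rfl
    · rw [lci_eq_isLCI']
      refine locP_of_chartF (h := ι ≫ h) he' hes hb ?_ ?_
      · rw [← Category.assoc, hej, Category.assoc, w, Functor.map_comp, Category.assoc]
      · rw [Over.comp_left]
        exact hL

/-- The map of fibre products induced by etale morphisms is etale. -/
theorem repWith_etale_pullback_lift {A B C A' B' C' P : Sp S} {f : A ⟶ C} {g : B ⟶ C} {f' : A' ⟶ C'}
    {g' : B' ⟶ C'} {i₁ : A ⟶ A'} {i₂ : B ⟶ B'} {i₃ : C ⟶ C'} (e₁ : f ≫ i₃ = i₁ ≫ f') (e₂ : g ≫ i₃ = i₂ ≫ g')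
    (h₁ : RepWith @Etale i₁) (h₂ : RepWith @Etale i₂) (h₃ : RepWith @Etale i₃)
    {p : P ⟶ A} {q : P ⟶ B} (sq : IsPullback p q f g) {P' : Sp S} {p' : P' ⟶ A'} {q' : P' ⟶ B'}
    (sq' : IsPullback p' q' f' g') (l : P ⟶ P') (hl₁ : l ≫ p' = p ≫ i₁) (hl₂ : l ≫ q' = q ≫ i₂) :
    RepWith @Etale l := by
  have h4 : RepWith @Etale (pullback.mapDesc f g i₃) :=
    repWith_of_isPullback (pullback_map_diagonal_isPullback f g i₃) (repWith_etale_diagonal h₃)
  let m₁ : pullback (f ≫ i₃) (g ≫ i₃) ⟶ pullback f' (g ≫ i₃) :=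
    pullback.map _ _ _ _ i₁ (𝟙 _) (𝟙 _) (by rw [Category.comp_id, e₁]) (by simp)
  let m₂ : pullback f' (g ≫ i₃) ⟶ pullback f' g' :=
    pullback.map _ _ _ _ (𝟙 _) i₂ (𝟙 _) (by simp) (by rw [Category.comp_id, e₂])
  have hm₁ : RepWith @Etale m₁ := by
    refine repWith_of_isPullback (IsPullback.flip ?_) h₁ (fst := pullback.fst _ _) (g := pullback.fst _ _)
    refine IsPullback.flip (IsPullback.of_bot ?_ (pullback.lift_fst _ _ _).symm
      (IsPullback.of_hasPullback f' (g ≫ i₃)))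
    rw [← e₁, pullback.lift_snd, Category.comp_id]
    exact IsPullback.of_hasPullback (f ≫ i₃) (g ≫ i₃)
  have hm₂ : RepWith @Etale m₂ := by
    refine repWith_of_isPullback ?_ h₂ (fst := pullback.snd _ _) (g := pullback.snd _ _)
    refine IsPullback.of_bot ?_ (pullback.lift_snd _ _ _).symm (IsPullback.of_hasPullback f' g').flip
    rw [← e₂, pullback.lift_fst, Category.comp_id]
    exact (IsPullback.of_hasPullback f' (g ≫ i₃)).flip
  have e : l = sq.isoPullback.hom ≫ ((pullback.mapDesc f g i₃ ≫ m₁) ≫ m₂) ≫ sq'.isoPullback.inv := by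
    refine sq'.hom_ext ?_ ?_ <;> simp [m₁, m₂, hl₁, hl₂, pullback.mapDesc]
  rw [e]
  exact repWith_comp (repWith_of_isIso _ _) (repWith_comp (repWith_comp (repWith_comp h4 hm₁) hm₂) (repWith_of_isIso _ _))

end Groth.Agent.RegKinds
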