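import Groth.Agent.RegKinds.Seq

/-!
# Regular immersions of the kinds Koszul, H1 and quasi: flat base change and composition
-/

set_option autoImplicit false
set_option linter.style.haveILetI false

universe u

open AlgebraicGeometry CategoryTheory
open Groth.Agent.KRegLib Groth.Agent.RegImmLib

namespace Groth.Agent.RegKinds

variable {k : RegImm.Kind}

/-- Regular immersion of kind `k` at a point, with an indexed sequence. -/
def KindAt (k : RegImm.Kind) {Z X : Scheme.{u}} (i : Z ⟶ X) (z : Z) : Prop :=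
  ∃ (U : X.Opens) (_ : IsAffineOpen U), i z ∈ U ∧ IsClosedImmersion (i ∣_ U) ∧
    ∃ (n : ℕ) (f : Fin n → Γ(X, U)), SeqP k f ∧ RingHom.ker (i.app U).hom = Ideal.span (Set.range f)

theorem h1_cast {R : Type u} [CommRing R] {n m : ℕ} (h : n = m) (f : Fin m → R)
    (hf : CAlgX.IsH1Regular (f ∘ Fin.cast h)) : CAlgX.IsH1Regular f := by
  subst h; exact hf

theorem quasi_cast {R : Type u} [CommRing R] {n m : ℕ} (h : n = m) (f : Fin m → R)
    (hf : CAlgX.IsQuasiRegular (f ∘ Fin.cast h)) : CAlgX.IsQuasiRegular f := by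
  subst h; exact hf

theorem get_ofFn_comp {R : Type u} {n : ℕ} (f : Fin n → R) :
    (List.ofFn f).get = f ∘ Fin.cast (List.length_ofFn (f := f)) := by
  funext i; simp [List.get_eq_getElem]; rfl

theorem seq_ofFn (hk : k ≠ .regular) {R : Type u} [CommRing R] {n : ℕ} (f : Fin n → R) :
    k.Seq R (List.ofFn f) ↔ SeqP k f := by
  cases k with
  | regular => exact absurd rfl hk
  | koszul => exact ⟨WiebeLib.isExact_of_isKoszulRegularSeq f, KoszulFlatLib.isKoszulRegularSeq_of_isExact⟩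
  | h1 =>
    refine ⟨fun h => h1_cast (List.length_ofFn (f := f)) f ?_, fun h => ?_⟩
    · rw [← get_ofFn_comp]; exact h
    · show CAlgX.IsH1Regular (List.ofFn f).get
      refine h1_cast (List.length_ofFn (f := f)).symm _ ?_
      have e : (List.ofFn f).get ∘ Fin.cast (List.length_ofFn (f := f)).symm = f := by
        funext i; simp [List.get_eq_getElem]
      rw [e]; exact h
  | quasi =>
    refine ⟨fun h => quasi_cast (List.length_ofFn (f := f)) f ?_, fun h => ?_⟩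
    · rw [← get_ofFn_comp]; exact h
    · show CAlgX.IsQuasiRegular (List.ofFn f).get
      refine quasi_cast (List.length_ofFn (f := f)).symm _ ?_
      have e : (List.ofFn f).get ∘ Fin.cast (List.length_ofFn (f := f)).symm = f := by
        funext i; simp [List.get_eq_getElem]
      rw [e]; exact h

theorem kindAt_iff (hk : k ≠ .regular) {Z X : Scheme.{u}} (i : Z ⟶ X) (z : Z) :
    RegImm.IsRegularImmersionAt k i z ↔ KindAt k i z := by
  constructor
  · rintro ⟨U, hz, hci, rs, hrs, hker⟩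
    refine ⟨U.1, U.2, hz, hci, rs.length, rs.get, (seq_ofFn hk _).1 (by rw [List.ofFn_get]; exact hrs), ?_⟩
    rw [hker, span_range_eq_ofList, List.ofFn_get]
  · rintro ⟨U, hU, hz, hci, n, f, hf, hker⟩
    exact ⟨⟨U, hU⟩, hz, hci, List.ofFn f, (seq_ofFn hk f).2 hf, hker.trans (span_range_eq_ofList f)⟩

theorem restrict_basicOpen' {Z X : Scheme.{u}} (i : Z ⟶ X) {U : X.Opens} [IsClosedImmersion (i ∣_ U)]
    (g : Γ(X, U)) {n : ℕ} {f : Fin n → Γ(X, U)} (hf : SeqP k f)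
    (hker : RingHom.ker (i.app U).hom = Ideal.span (Set.range f)) (hU : IsAffineOpen U) :
    ∃ f' : Fin n → Γ(X, X.basicOpen g), SeqP k f' ∧
      RingHom.ker (i.app (X.basicOpen g)).hom = Ideal.span (Set.range f') := by
  obtain ⟨hU', hs⟩ := Synt29.surjective_app_of_isClosedImmersion_restrict i U hU
  letI : Algebra Γ(X, U) Γ(X, X.basicOpen g) := (X.presheaf.map (homOfLE (X.basicOpen_le g)).op).hom.toAlgebra
  haveI : IsLocalization.Away g Γ(X, X.basicOpen g) := hU.isLocalization_basicOpen g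
  haveI : Module.Flat Γ(X, U) Γ(X, X.basicOpen g) := IsLocalization.flat _ (Submonoid.powers g)
  refine ⟨fun j => algebraMap Γ(X, U) Γ(X, X.basicOpen g) (f j), seqP_map hf,
    (app_basicOpen_props i hU hU' hs g).2.2.trans ?_⟩
  rw [hker, Ideal.map_span, ← Set.range_comp]
  rfl

theorem KindAt.comp {k' : RegImm.Kind} (hkk : Composable k k') {X Y Z : Scheme.{u}} (i : Y ⟶ X) (j : Z ⟶ Y)
    (z : Z) (hi : KindAt k i (j z)) (hj : KindAt k' j z) : KindAt k (j ≫ i) z := by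
  obtain ⟨U, hU, hzU, hci, n, f, hf, hker⟩ := hi
  obtain ⟨V, hV, hzV, hcj, m, h, hh, hkerh⟩ := hj
  obtain ⟨hU', hUs⟩ := Synt29.surjective_app_of_isClosedImmersion_restrict i U hU
  obtain ⟨g, g', hgg, hzg⟩ := exists_basicOpen_le_affine_inter hU' hV (j z) ⟨hzU, hzV⟩
  obtain ⟨G, rfl⟩ := hUs g
  let W := X.basicOpen G
  have hW : IsAffineOpen W := hU.basicOpen G
  haveI hciW : IsClosedImmersion (i ∣_ W) := isClosedImmersion_restrict_of_le i (X.basicOpen_le G)
  obtain ⟨hW', hWs⟩ := Synt29.surjective_app_of_isClosedImmersion_restrict i W hW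
  obtain ⟨f', hf', hkerf'⟩ := restrict_basicOpen' i G hf hker hU
  obtain ⟨h', hh', hkerh'⟩ := restrict_basicOpen' j g' hh hkerh hV
  have hpre : i ⁻¹ᵁ W = Y.basicOpen g' := (Scheme.preimage_basicOpen i G).trans hgg
  have key : ∀ O : Y.Opens, O = Y.basicOpen g' → IsClosedImmersion (j ∣_ O) ∧
      ∃ h'' : Fin m → Γ(Y, O), SeqP k' h'' ∧ RingHom.ker (j.app O).hom = Ideal.span (Set.range h'') := by
    rintro O rfl
    exact ⟨isClosedImmersion_restrict_of_le j (Y.basicOpen_le g'), h', hh', hkerh'⟩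
  obtain ⟨hcjW, h'', hh'', hkerh''⟩ := key (i ⁻¹ᵁ W) hpre
  obtain ⟨N, F, hF, hspan⟩ := exists_comp hkk hf' (i.app W).hom hWs hkerf' hh''
  refine ⟨W, hW, ?_, ?_, N, F, hF, ?_⟩
  · show j z ∈ i ⁻¹ᵁ W
    rw [hpre, ← hgg]
    exact hzg
  · rw [morphismRestrict_comp]
    exact MorphismProperty.comp_mem @IsClosedImmersion _ _ hcjW hciW
  · show RingHom.ker ((j.app (i ⁻¹ᵁ W)).hom.comp (i.app W).hom) = _
    rw [← RingHom.comap_ker, hkerh'', hspan]

theorem isRegularImmersion_comp {k' : RegImm.Kind} (hkk : Composable k k') {X Y Z : Scheme.{u}} {i : Y ⟶ X}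
    {j : Z ⟶ Y} (hi : RegImm.IsRegularImmersion k i) (hj : RegImm.IsRegularImmersion k' j) :
    RegImm.IsRegularImmersion k (j ≫ i) := by
  have hk : k ≠ .regular ∧ k' ≠ .regular := by
    rcases hkk with ⟨rfl, rfl⟩ | ⟨rfl | rfl, rfl⟩ <;> simp
  exact ⟨MorphismProperty.comp_mem @IsImmersion _ _ hj.1 hi.1, fun z => (kindAt_iff hk.1 _ z).2
    (KindAt.comp hkk i j z ((kindAt_iff hk.1 i _).1 (hi.2 (j z))) ((kindAt_iff hk.2 j z).1 (hj.2 z)))⟩

theorem KindAt.baseChange {X Y X' Y' : Scheme.{u}} {i : Y ⟶ X} {g : X' ⟶ X} [Flat g]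
    {i' : Y' ⟶ X'} {g' : Y' ⟶ Y} (hsq : IsPullback g' i' i g) (z' : Y')
    (h : KindAt k i (g' z')) : KindAt k i' z' := by
  obtain ⟨U, hU, hzU, hci, n, f, hf, hker⟩ := h
  have hx : g (i' z') ∈ U := by
    have h1 : g (i' z') = i (g' z') := (congrArg (fun φ : Y' ⟶ X => φ z') hsq.w).symm
    rw [h1]
    exact hzU
  obtain ⟨U', hU', hzU', hle⟩ := exists_isAffineOpen_mem_and_subset (U := g ⁻¹ᵁ U) (x := i' z') hx
  obtain ⟨hUY, hUs⟩ := Synt29.surjective_app_of_isClosedImmersion_restrict i U hU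
  have hUY' : i' ⁻¹ᵁ U' = g' ⁻¹ᵁ (i ⁻¹ᵁ U) ⊓ i' ⁻¹ᵁ U' := by
    refine (inf_eq_right.2 fun y hy => ?_).symm
    show i (g' y) ∈ U
    have h1 : i (g' y) = g (i' y) := congrArg (fun φ : Y' ⟶ X => φ y) hsq.w
    rw [h1]
    exact hle hy
  have hpo := (isIso_pushoutSection_iff hsq hle le_rfl hUY').1
    (isIso_pushoutSection_of_isAffineOpen hsq hle le_rfl hUY' hU hU' hUY)
  have hs : Function.Surjective (i.appLE U (i ⁻¹ᵁ U) le_rfl) := by
    rw [← Scheme.Hom.app_eq_appLE]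
    exact hUs
  have hk := ker_of_isPushout hpo hs
  rw [← Scheme.Hom.app_eq_appLE, ← Scheme.Hom.app_eq_appLE] at hk
  letI : Algebra Γ(X, U) Γ(X', U') := (g.appLE U U' hle).hom.toAlgebra
  haveI : Module.Flat Γ(X, U) Γ(X', U') := g.flat_appLE hU hU' hle
  refine ⟨U', hU', hzU', ?_, n, fun j => algebraMap Γ(X, U) Γ(X', U') (f j), seqP_map hf, hk.trans ?_⟩
  · have h2 := Scheme.Hom.isPullback_resLE hsq hle le_rfl hUY'
    have h3 : IsClosedImmersion (i.resLE U (i ⁻¹ᵁ U) le_rfl) := by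
      rw [Scheme.Hom.resLE_eq_morphismRestrict]
      exact hci
    rw [← Scheme.Hom.resLE_eq_morphismRestrict]
    exact MorphismProperty.of_isPullback (P := @IsClosedImmersion) h2 h3
  · rw [hker, Ideal.map_span, ← Set.range_comp]
    rfl

theorem isRegularImmersion_baseChange (hk : k ≠ .regular) {X Y X' Y' : Scheme.{u}} {i : Y ⟶ X} {g : X' ⟶ X}
    [Flat g] {i' : Y' ⟶ X'} {g' : Y' ⟶ Y} (hsq : IsPullback g' i' i g)
    (hi : RegImm.IsRegularImmersion k i) : RegImm.IsRegularImmersion k i' :=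
  ⟨MorphismProperty.of_isPullback (P := @IsImmersion) hsq hi.1,
    fun z' => (kindAt_iff hk i' z').2 (((kindAt_iff hk i _).1 (hi.2 (g' z'))).baseChange hsq z')⟩

/-- Flat base change of a regular immersion of any kind. -/
theorem isRegularImmersion_baseChange_all {X Y X' Y' : Scheme.{u}} {i : Y ⟶ X} {g : X' ⟶ X}
    [Flat g] {i' : Y' ⟶ X'} {g' : Y' ⟶ Y} (hsq : IsPullback g' i' i g)
    (hi : RegImm.IsRegularImmersion k i) : RegImm.IsRegularImmersion k i' := by
  by_cases hk : k = .regular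
  swap
  · exact isRegularImmersion_baseChange hk hsq hi
  subst hk
  refine ⟨MorphismProperty.of_isPullback (P := @IsImmersion) hsq hi.1, fun z' => ?_⟩
  obtain ⟨⟨U, hU⟩, hzU, hci, rs, hrs, hker⟩ := hi.2 (g' z')
  have hx : g (i' z') ∈ U := by
    have h1 : g (i' z') = i (g' z') := (congrArg (fun φ : Y' ⟶ X => φ z') hsq.w).symm
    rw [h1]
    exact hzU
  obtain ⟨U', hU', hzU', hle⟩ := exists_isAffineOpen_mem_and_subset (U := g ⁻¹ᵁ U) (x := i' z') hx
  obtain ⟨hUY, hUs⟩ := Synt29.surjective_app_of_isClosedImmersion_restrict i U hU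
  have hUY' : i' ⁻¹ᵁ U' = g' ⁻¹ᵁ (i ⁻¹ᵁ U) ⊓ i' ⁻¹ᵁ U' := by
    refine (inf_eq_right.2 fun y hy => ?_).symm
    show i (g' y) ∈ U
    have h1 : i (g' y) = g (i' y) := congrArg (fun φ : Y' ⟶ X => φ y) hsq.w
    rw [h1]
    exact hle hy
  have hpo := (isIso_pushoutSection_iff hsq hle le_rfl hUY').1
    (isIso_pushoutSection_of_isAffineOpen hsq hle le_rfl hUY' hU hU' hUY)
  have hs : Function.Surjective (i.appLE U (i ⁻¹ᵁ U) le_rfl) := by
    rw [← Scheme.Hom.app_eq_appLE]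
    exact hUs
  have hk := ker_of_isPushout hpo hs
  rw [← Scheme.Hom.app_eq_appLE, ← Scheme.Hom.app_eq_appLE] at hk
  letI : Algebra Γ(X, U) Γ(X', U') := (g.appLE U U' hle).hom.toAlgebra
  haveI : Module.Flat Γ(X, U) Γ(X', U') := g.flat_appLE hU hU' hle
  have hci' : IsClosedImmersion (i' ∣_ U') := by
    have h2 := Scheme.Hom.isPullback_resLE hsq hle le_rfl hUY'
    have h3 : IsClosedImmersion (i.resLE U (i ⁻¹ᵁ U) le_rfl) := by
      rw [Scheme.Hom.resLE_eq_morphismRestrict]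
      exact hci
    rw [← Scheme.Hom.resLE_eq_morphismRestrict]
    exact MorphismProperty.of_isPullback (P := @IsClosedImmersion) h2 h3
  have hker' : RingHom.ker (i'.app U').hom = Ideal.ofList (rs.map (algebraMap Γ(X, U) Γ(X', U'))) := by
    rw [hk, hker, ← Ideal.map_ofList]
    rfl
  refine ⟨⟨U', hU'⟩, hzU', hci', rs.map (algebraMap Γ(X, U) Γ(X', U')), ⟨?_, ?_⟩, hker'⟩
  · exact RingTheory.Sequence.IsWeaklyRegular.of_flat_of_isBaseChange
      (IsBaseChange.linearMap Γ(X, U) Γ(X', U')) hrs.toIsWeaklyRegular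
  · haveI : Nonempty (i' ⁻¹ᵁ U') := ⟨⟨z', hzU'⟩⟩
    haveI : Nontrivial Γ(Y', i' ⁻¹ᵁ U') := inferInstance
    rw [smul_eq_mul, Ideal.mul_top, ← hker']
    exact (RingHom.ker_ne_top _).symm

end Groth.Agent.RegKinds
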