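import Groth.Agent.RegKinds.Seq
import Groth.Agent.Synt29.QRDescentFF
import Groth.Agent.CAlgOdd.H1Regular
import Groth.Agent.S2103

/-!
# H1 regular ideals descend along faithfully flat maps
-/

set_option autoImplicit false
set_option linter.style.haveILetI false
set_option backward.isDefEq.respectTransparency.types false

universe u

open TensorProduct Groth.Agent.KRegLib Groth.Agent.Synt29

namespace Groth.Agent.RegKinds

variable {A S : Type u} [CommRing A] [CommRing S] [Algebra A S] {c : ℕ}

/-- Around every prime containing the ideal it is generated by an H1 regular sequence. -/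
def IsLocallyH1 (A : Type u) [CommRing A] (I : Ideal A) : Prop :=
  ∀ (p : Ideal A) [p.IsPrime], I ≤ p → ∃ g : A, g ∉ p ∧ ∃ (r : ℕ) (f : Fin r → Localization.Away g),
    CAlgX.IsH1Regular f ∧ Ideal.span (Set.range f) = I.map (algebraMap A (Localization.Away g))

/-- The trivial relations. -/
def trivRel (f : Fin c → A) : Submodule A (Fin c → A) :=
  Submodule.span A {v : Fin c → A | ∃ i j : Fin c, v = Pi.single i (f j) - Pi.single j (f i)}

theorem mem_of_h1_rel {f : Fin c → A} (hf : CAlgX.IsH1Regular f) (u : Fin c → A) (hu : ∑ i, u i * f i = 0)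
    (i : Fin c) : u i ∈ Ideal.span (Set.range f) :=
  QRDescent.mem_of_rel (Groth.Agent.S2103.result f hf) u hu i

theorem h1_of_span_eq_top {f : Fin c → A} (h : Ideal.span (Set.range f) = ⊤) : CAlgX.IsH1Regular f := by
  classical
  obtain ⟨v, hv⟩ := Ideal.mem_span_range_iff_exists_fun.1 (h ▸ Submodule.mem_top : (1 : A) ∈ Ideal.span (Set.range f))
  intro a ha
  have : a = ∑ i, ∑ j, (a i * v j) • (Pi.single i (f j) - Pi.single j (f i) : Fin c → A) := by
    funext l
    simp only [Finset.sum_apply, Pi.smul_apply, Pi.sub_apply, smul_eq_mul, mul_sub, Finset.sum_sub_distrib,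
      Pi.single_apply, mul_ite, mul_zero]
    rw [Finset.sum_comm (γ := Fin c)]
    simp only [Finset.sum_ite_eq, Finset.mem_univ, if_true]
    have e1 : ∑ j, a l * v j * f j = a l := by simp only [mul_assoc, ← Finset.mul_sum, hv, mul_one]
    have e2 : ∑ i, a i * v l * f i = 0 := by
      simp only [mul_assoc, mul_left_comm _ (v l) _, ← Finset.mul_sum, ha, mul_zero]
    rw [e1, e2, sub_zero]
  rw [this]
  exact Submodule.sum_mem _ fun i _ => Submodule.sum_mem _ fun j _ =>
    Submodule.smul_mem _ _ (Submodule.subset_span ⟨i, j, rfl⟩)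

theorem h1_of_forall_away {f : Fin c → A} (h : ∀ (Q : Ideal A) [Q.IsPrime], ∃ G : A, G ∉ Q ∧
    CAlgX.IsH1Regular fun i => algebraMap A (Localization.Away G) (f i)) : CAlgX.IsH1Regular f := by
  classical
  intro a ha
  show a ∈ trivRel f
  by_contra hne
  let I : Ideal A := (trivRel f).colon ({a} : Set (Fin c → A))
  obtain ⟨Q, hQ, hle⟩ := Ideal.exists_le_maximal I fun htop => hne (by
    simpa [I] using Submodule.mem_colon_singleton.1 (htop ▸ Submodule.mem_top : (1 : A) ∈ I))
  haveI := hQ.isPrime
  obtain ⟨G, hG, hh⟩ := h Q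
  let T := Localization.Away G
  let L : (Fin c → A) →ₗ[A] (Fin c → T) := (Algebra.linearMap A T).compLeft (Fin c)
  have hmem := hh (L a) (by
    show ∑ i, algebraMap A T (a i) * algebraMap A T (f i) = 0
    simp only [← map_mul, ← map_sum, ha, map_zero])
  have key : ∀ w ∈ Submodule.span T {v : Fin c → T | ∃ i j : Fin c,
      v = Pi.single i (algebraMap A T (f j)) - Pi.single j (algebraMap A T (f i))},
      ∃ n : ℕ, ∃ b ∈ trivRel f, algebraMap A T (G ^ n) • w = L b := by
    intro w hw
    induction hw using Submodule.span_induction with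
    | mem x hx =>
      obtain ⟨i, j, rfl⟩ := hx
      refine ⟨0, Pi.single i (f j) - Pi.single j (f i), Submodule.subset_span ⟨i, j, rfl⟩, ?_⟩
      funext l
      simp [L, Pi.single_apply, apply_ite (algebraMap A T)]
    | zero => exact ⟨0, 0, zero_mem _, by simp⟩
    | add x y _ _ hx hy =>
      obtain ⟨n, b, hb, hxb⟩ := hx
      obtain ⟨m, b', hb', hyb⟩ := hy
      refine ⟨n + m, G ^ m • b + G ^ n • b', add_mem (Submodule.smul_mem _ _ hb) (Submodule.smul_mem _ _ hb'), ?_⟩
      rw [map_add, map_smul, map_smul, ← hxb, ← hyb]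
      funext l
      simp only [Pi.smul_apply, Pi.add_apply, smul_eq_mul, map_pow, pow_add, map_mul]
      simp only [Algebra.smul_def, map_pow]
      ring
    | smul r x _ hx =>
      obtain ⟨n, b, hb, hxb⟩ := hx
      obtain ⟨⟨r₀, _, k, rfl⟩, hr⟩ := IsLocalization.surj (Submonoid.powers G) r
      refine ⟨n + k, r₀ • b, Submodule.smul_mem _ _ hb, ?_⟩
      rw [map_smul, ← hxb, ← algebraMap_smul T r₀, smul_smul, smul_smul, pow_add, map_mul]
      congr 1
      have hr' : r * algebraMap A T (G ^ k) = algebraMap A T r₀ := hr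
      rw [← hr']
      ring
  obtain ⟨n, b, hb, hab⟩ := key _ hmem
  have he : ∀ l, algebraMap A T (G ^ n * a l) = algebraMap A T (b l) := fun l => by
    rw [map_mul]
    exact congrFun hab l
  choose t ht using fun l => (IsLocalization.eq_iff_exists (Submonoid.powers G) T).1 (he l)
  obtain ⟨N, hN⟩ := (∏ l, t l : Submonoid.powers G).2
  have heq : (G ^ N * G ^ n) • a = G ^ N • b := by
    funext l
    obtain ⟨d, hd⟩ : (t l : A) ∣ G ^ N := by
      rw [show G ^ N = ((∏ l, t l : Submonoid.powers G) : A) from hN, Submonoid.coe_finsetProd]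
      exact Finset.dvd_prod_of_mem (fun l => (t l : A)) (Finset.mem_univ l)
    show G ^ N * G ^ n * a l = G ^ N * b l
    rw [hd]
    linear_combination d * ht l
  have : G ^ N * G ^ n ∈ I := Submodule.mem_colon_singleton.2 (heq ▸ Submodule.smul_mem _ _ hb)
  rw [← pow_add] at this
  exact hG (hQ.isPrime.mem_of_pow_mem _ (hle this))

/-- H1 regularity descends along faithfully flat maps. -/
theorem h1_of_faithfullyFlat [Module.FaithfullyFlat A S] {f : Fin c → A}
    (hf : CAlgX.IsH1Regular fun i => algebraMap A S (f i)) : CAlgX.IsH1Regular f := by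
  classical
  intro a ha
  show a ∈ trivRel f
  let N := trivRel f
  let e := TensorProduct.piScalarRight A S S (Fin c)
  have hrhs : Submodule.span S {v : Fin c → S | ∃ i j : Fin c,
      v = Pi.single i (algebraMap A S (f j)) - Pi.single j (algebraMap A S (f i))} ≤
      (N.baseChange S).map e.toLinearMap := by
    refine Submodule.span_le.2 ?_
    rintro _ ⟨i, j, rfl⟩
    refine ⟨1 ⊗ₜ (Pi.single i (f j) - Pi.single j (f i)),
      Submodule.tmul_mem_baseChange_of_mem 1 (Submodule.subset_span ⟨i, j, rfl⟩), ?_⟩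
    funext l
    simp [e, Pi.single_apply, Algebra.smul_def, apply_ite (algebraMap A S)]
  obtain ⟨z, hz, hze⟩ := hrhs (hf (fun i => algebraMap A S (a i)) (by
    simp only [← map_mul, ← map_sum, ha, map_zero]))
  have hz' : z = 1 ⊗ₜ[A] a := e.injective (by rw [← LinearEquiv.coe_toLinearMap, hze]; funext l; simp [e, Algebra.smul_def])
  subst hz'
  obtain ⟨w, hw⟩ := hz
  have h0 : N.mkQ.lTensor S ((1 : S) ⊗ₜ[A] a) = 0 := by
    rw [← hw]
    clear hw hze
    induction w using TensorProduct.induction_on with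
    | zero => simp
    | tmul b v =>
      show N.mkQ.lTensor S (b ⊗ₜ[A] v.1) = 0
      rw [LinearMap.lTensor_tmul, show N.mkQ v.1 = 0 from (Submodule.Quotient.mk_eq_zero _).2 v.2, tmul_zero]
    | add x y hx hy => rw [map_add, map_add, hx, hy, add_zero]
  have h1 : (1 : S) ⊗ₜ[A] N.mkQ a = 0 := by rwa [LinearMap.lTensor_tmul] at h0
  exact (Submodule.Quotient.mk_eq_zero _).1 ((Module.FaithfullyFlat.one_tmul_eq_zero_iff A _ _).1 h1)

/-- An invertible linear change of an H1 regular sequence is H1 regular. -/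
theorem h1_linear_change {f f' : Fin c → A} (hf : CAlgX.IsH1Regular f) (M P : Matrix (Fin c) (Fin c) A)
    (hPM : P * M = 1) (hMP : M * P = 1) (hM : ∀ i, ∑ j, M i j * f j = f' i) : CAlgX.IsH1Regular f' := by
  classical
  have hP : ∀ i, ∑ j, P i j * f' j = f i := fun i => by
    simp only [← hM, Finset.mul_sum, ← mul_assoc]
    rw [Finset.sum_comm]
    simp only [← Finset.sum_mul, ← Matrix.mul_apply, hPM, Matrix.one_apply, ite_mul, one_mul, zero_mul,
      Finset.sum_ite_eq, Finset.mem_univ, if_true]
  intro a ha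
  show a ∈ trivRel f'
  obtain ⟨α, hα, hαa⟩ := CAlgOdd.H1Regular.exists_alt f hf (v := fun j => ∑ i, a i * M i j) (by
    simp only [Finset.sum_mul, mul_assoc]
    rw [Finset.sum_comm]
    simp only [← Finset.mul_sum, hM, ha])
  have hal : ∀ i, a i = ∑ j, (∑ l, a l * M l j) * P j i := fun i => by
    simp only [Finset.sum_mul, mul_assoc]
    rw [Finset.sum_comm]
    simp only [← Finset.mul_sum, ← Matrix.mul_apply, hMP, Matrix.one_apply, mul_ite, mul_one, mul_zero,
      Finset.sum_ite_eq', Finset.mem_univ, if_true]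
  let g : Fin c → Fin c → (Fin c → A) := fun j l => fun i => P j i * f l - P l i * f j
  have hg : ∀ j l, g j l ∈ trivRel f' := fun j l => by
    have : g j l = ∑ x, ∑ y, (P j x * P l y) • (Pi.single x (f' y) - Pi.single y (f' x) : Fin c → A) := by
      funext i
      simp only [g, ← hP j, ← hP l, Finset.sum_apply, Pi.smul_apply, Pi.sub_apply, smul_eq_mul, mul_sub,
        Finset.sum_sub_distrib, Pi.single_apply, mul_ite, mul_zero]
      rw [Finset.sum_comm (γ := Fin c)]
      simp only [Finset.sum_ite_eq, Finset.mem_univ, if_true, Finset.mul_sum]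
      congr 1 <;> exact Finset.sum_congr rfl fun _ _ => by ring
    rw [this]
    exact Submodule.sum_mem _ fun x _ => Submodule.sum_mem _ fun y _ =>
      Submodule.smul_mem _ _ (Submodule.subset_span ⟨x, y, rfl⟩)
  have hanti : ∀ i, a i = ∑ j, ∑ l, if j < l then α j l * g j l i else 0 := fun i => by
    rw [hal]
    simp only [show ∀ j, (∑ l, a l * M l j) = ∑ l, α j l * f l from hαa, Finset.sum_mul]
    simp only [g, mul_sub]
    have e : ∀ j l, α j l * f l * P j i = (if j < l then α j l * (P j i * f l) else 0) +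
        (if l < j then α j l * (P j i * f l) else 0) := fun j l => by
      rcases lt_trichotomy j l with h | h | h
      · rw [if_pos h, if_neg h.not_gt]; ring
      · subst h; simp [hα.1]
      · rw [if_neg h.not_gt, if_pos h]; ring
    simp only [e, Finset.sum_add_distrib]
    rw [Finset.sum_comm (f := fun j l => if l < j then α j l * (P j i * f l) else 0), ← Finset.sum_add_distrib]
    refine Finset.sum_congr rfl fun j _ => ?_
    rw [← Finset.sum_add_distrib]
    refine Finset.sum_congr rfl fun l _ => ?_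
    by_cases h : j < l
    · simp only [if_pos h, hα.2 j l]; ring
    · simp only [if_neg h, add_zero]
  have : a = ∑ j, ∑ l, if j < l then α j l • g j l else 0 := by
    funext i
    rw [hanti i]
    simp only [Finset.sum_apply]
    exact Finset.sum_congr rfl fun j _ => Finset.sum_congr rfl fun l _ => by split_ifs <;> simp
  rw [this]
  refine Submodule.sum_mem _ fun j _ => Submodule.sum_mem _ fun l _ => ?_
  split_ifs
  · exact Submodule.smul_mem _ _ (hg j l)
  · exact zero_mem _

/-- Another generating sequence of the same length is H1 regular nearby. -/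
theorem exists_h1_of_span_eq (Q : Ideal A) [Q.IsPrime] (g : A) (hg : g ∉ Q) {n : ℕ}
    (e f' : Fin n → Localization.Away g) (he : CAlgX.IsH1Regular e)
    (h : Ideal.span (Set.range f') = Ideal.span (Set.range e))
    (hle : Ideal.span (Set.range e) ≤ Q.map (algebraMap A (Localization.Away g))) :
    ∃ G : A, G ∉ Q ∧ ∀ y : Fin n → A, (∀ i, algebraMap A (Localization.Away g) (y i) = f' i) →
      CAlgX.IsH1Regular fun i => algebraMap A (Localization.Away G) (y i) := by
  classical
  let T := Localization.Away g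
  obtain ⟨hprime, hcomap⟩ := exists_prime_of_away T Q hg
  haveI := hprime
  let QT := Q.map (algebraMap A T)
  have hM : ∀ i, ∃ v : Fin n → T, ∑ j, v j * e j = f' i := fun i =>
    Ideal.mem_span_range_iff_exists_fun.1 (h ▸ Ideal.subset_span ⟨i, rfl⟩)
  have hN : ∀ i, ∃ v : Fin n → T, ∑ j, v j * f' j = e i := fun i =>
    Ideal.mem_span_range_iff_exists_fun.1 (h.symm ▸ Ideal.subset_span ⟨i, rfl⟩)
  choose M hM using hM
  choose N hN using hN
  let MM : Matrix (Fin n) (Fin n) T := Matrix.of M
  let NN : Matrix (Fin n) (Fin n) T := Matrix.of N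
  let q : T →+* T ⧸ QT := Ideal.Quotient.mk QT
  have h2 : NN.map q * MM.map q = 1 := by
    rw [← Matrix.map_mul, ← Matrix.map_one q (map_zero q) (map_one q)]
    ext i l
    simp only [Matrix.map_apply, q]
    rw [Ideal.Quotient.eq]
    refine hle (mem_of_h1_rel he (fun l => (NN * MM) i l - (1 : Matrix (Fin n) (Fin n) T) i l) ?_ l)
    simp only [sub_mul, Finset.sum_sub_distrib, Matrix.mul_apply, Finset.sum_mul, MM, NN, Matrix.of_apply,
      Matrix.one_apply, ite_mul, one_mul, zero_mul, Finset.sum_ite_eq, Finset.mem_univ, if_true, mul_assoc]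
    rw [Finset.sum_comm]
    simp only [← Finset.mul_sum, hM, hN, sub_self]
  have hdet : MM.det ∉ QT := fun hd => by
    have h3 := congrArg Matrix.det h2
    rw [Matrix.det_mul, show (MM.map q).det = q MM.det from (RingHom.map_det q MM).symm, Ideal.Quotient.eq_zero_iff_mem.2 hd, mul_zero, Matrix.det_one] at h3
    exact hprime.ne_top (Ideal.Quotient.subsingleton_iff.1 (subsingleton_of_zero_eq_one h3))
  let T' := Localization.Away MM.det
  obtain ⟨G, hG, hGT⟩ := exists_away_away T Q hg MM.det hdet T'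
  refine ⟨G, hG, fun y hy => ?_⟩
  haveI := hGT
  have hu : IsUnit (MM.map (algebraMap T T')).det := by
    rw [show (MM.map (algebraMap T T')).det = algebraMap T T' MM.det from (RingHom.map_det _ MM).symm]
    exact IsLocalization.Away.algebraMap_isUnit _
  have h1 : CAlgX.IsH1Regular fun i => algebraMap T T' (f' i) :=
    h1_linear_change (h1_flat (S := T') he) (MM.map (algebraMap T T')) (MM.map (algebraMap T T'))⁻¹
      (Matrix.nonsing_inv_mul _ hu) (Matrix.mul_nonsing_inv _ hu) fun i => by
        show ∑ x, algebraMap T T' (M i x) * algebraMap T T' (e x) = _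
        simp only [← map_mul, ← map_sum, hM]
  let eq : T' ≃ₐ[A] Localization.Away G := IsLocalization.algEquiv (Submonoid.powers G) _ _
  have h4 := seqP_ringEquiv (k := .h1) eq.toRingEquiv h1
  change CAlgX.IsH1Regular _ at h4
  convert h4 using 1
  funext i
  show _ = eq (algebraMap T T' (f' i))
  rw [← hy i, ← IsScalarTower.algebraMap_apply A T T', eq.commutes]

/-- Near the prime `P` the ideal is generated by a H1 regular sequence. -/
def H1Near (J P : Ideal A) : Prop :=
  ∃ g : A, g ∉ P ∧ ∃ (r : ℕ) (f : Fin r → Localization.Away g),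
    CAlgX.IsH1Regular f ∧ Ideal.span (Set.range f) = J.map (algebraMap A (Localization.Away g))

/-- A flat algebra in which `g` is invertible receives a H1 regular sequence. -/
theorem H1Near.exists_on {J P : Ideal A} (h : H1Near J P) :
    ∃ g : A, g ∉ P ∧ ∀ (T : Type u) [CommRing T] [Algebra A T] [Module.Flat A T], IsUnit (algebraMap A T g) →
      ∃ (r : ℕ) (f : Fin r → T), CAlgX.IsH1Regular f ∧ Ideal.span (Set.range f) = J.map (algebraMap A T) := by
  obtain ⟨g, hg, r, f, hf, hI⟩ := h
  refine ⟨g, hg, fun T _ _ _ hu => ?_⟩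
  letI : Algebra (Localization.Away g) T := (IsLocalization.Away.lift g hu).toAlgebra
  haveI : IsScalarTower A (Localization.Away g) T := IsScalarTower.of_algebraMap_eq fun x => by
    rw [RingHom.algebraMap_toAlgebra, IsLocalization.Away.lift_eq]
  haveI : Module.Flat (Localization.Away g) T :=
    (Module.flat_iff_of_isLocalization (Localization.Away g) (Submonoid.powers g) T).2 inferInstance
  refine ⟨r, fun i => algebraMap _ T (f i), RegKinds.h1_flat hf, ?_⟩
  rw [← QRDescent.map_span_range, hI, Ideal.map_map, ← IsScalarTower.algebraMap_eq]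

/-- A minimal generating sequence of a locally H1 regular ideal is H1 regular nearby. -/
theorem exists_h1_nhd (Q : Ideal A) [Q.IsPrime] {r : ℕ} (y : Fin r → A) (hy : ∀ i, y i ∈ Q)
    (hK : H1Near (Ideal.span (Set.range y)) Q) (hind : ∀ u : Fin r → A, ∑ i, u i * y i = 0 → ∀ i, u i ∈ Q) :
    ∃ G : A, G ∉ Q ∧ CAlgX.IsH1Regular fun i => algebraMap A (Localization.Away G) (y i) := by
  classical
  obtain ⟨g, hg, n, e, he, heJ⟩ := hK
  rw [QRDescent.map_span_range] at heJ
  let T := Localization.Away g
  obtain ⟨hprime, hcomap⟩ := KRegLib.exists_prime_of_away T Q hg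
  haveI := hprime
  let QT := Q.map (algebraMap A T)
  have hle : Ideal.span (Set.range e) ≤ QT := by
    rw [heJ]
    exact Ideal.span_le.2 (Set.range_subset_iff.2 fun i => Ideal.mem_map_of_mem _ (hy i))
  obtain rfl : r = n := QRDescent.card_eq_of_minimal QT _ e heJ.symm (fun u hu i => by
    obtain ⟨s, hs⟩ := IsLocalization.exist_integer_multiples_of_finite (Submonoid.powers g) u
    choose v hv using hs
    have h1 : algebraMap A T (∑ j, v j * y j) = 0 := by
      rw [map_sum, ← mul_zero (algebraMap A T s), ← hu, Finset.mul_sum]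
      exact Finset.sum_congr rfl fun j _ => by rw [map_mul, hv, Algebra.smul_def, mul_assoc]
    obtain ⟨⟨s', hs'⟩, hs0⟩ := (IsLocalization.map_eq_zero_iff (Submonoid.powers g) T _).1 h1
    have hv' := hind (fun j => s' * v j) (by simpa only [Finset.mul_sum, mul_assoc] using hs0) i
    have hnot : s' ∉ Q := by
      obtain ⟨k, rfl⟩ := hs'
      exact fun hk => hg (Ideal.IsPrime.mem_of_pow_mem inferInstance k hk)
    have h2 : algebraMap A T (v i) ∈ QT :=
      Ideal.mem_map_of_mem _ ((Ideal.IsPrime.mem_or_mem inferInstance hv').resolve_left hnot)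
    rwa [hv, Algebra.smul_def, Ideal.unit_mul_mem_iff_mem _ (IsLocalization.map_units T s)] at h2)
    fun u hu i => hle (mem_of_h1_rel he u hu i)
  obtain ⟨G, hG, hGy⟩ := exists_h1_of_span_eq Q g hg e _ he heJ.symm hle
  exact ⟨G, hG, hGy y fun _ => rfl⟩

/-- A locally H1 regular ideal is finitely generated. -/
theorem fg_of_isLocallyH1 (I : Ideal A) (h : IsLocallyH1 A I) : I.FG := by
  let t : Set A := {g | (I.map (algebraMap A (Localization.Away g))).FG}
  refine Ideal.fg_of_localizationSpan t ?_ fun g => g.2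
  by_contra hne
  obtain ⟨m, hm, hle⟩ := Ideal.exists_le_maximal _ hne
  haveI := hm.isPrime
  by_cases hIm : I ≤ m
  · obtain ⟨g, hg, r, f, -, hI⟩ := h m hIm
    refine hg (hle (Ideal.subset_span ?_))
    show (I.map _).FG
    rw [← hI]
    exact Submodule.fg_span (Set.finite_range f)
  · obtain ⟨g, hgI, hgm⟩ := SetLike.not_le_iff_exists.1 hIm
    refine hgm (hle (Ideal.subset_span ?_))
    show (I.map (algebraMap A (Localization.Away g))).FG
    rw [Ideal.eq_top_of_isUnit_mem _ (Ideal.mem_map_of_mem _ hgI) (IsLocalization.Away.algebraMap_isUnit g)]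
    exact ⟨{1}, by simp⟩

/-- The core of faithfully flat descent. -/
theorem exists_h1_of_ff {A B : Type u} [CommRing A] [CommRing B] [Algebra A B] [Module.FaithfullyFlat A B]
    {r : ℕ} (x : Fin r → A) (p : Ideal A) [p.IsPrime]
    (hind : ∀ u : Fin r → A, ∑ i, u i * x i = 0 → ∀ i, u i ∈ p) (hxp : ∀ i, x i ∈ p)
    (hK : ∀ Q : Ideal B, Q.IsPrime → (∀ i, algebraMap A B (x i) ∈ Q) →
      H1Near (Ideal.span (Set.range fun i => algebraMap A B (x i))) Q) :
    ∃ g : A, g ∉ p ∧ CAlgX.IsH1Regular fun i => algebraMap A (Localization.Away g) (x i) := by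
  classical
  let al := algebraMap A B
  let y : Fin r → B := fun i => al (x i)
  let Good : PrimeSpectrum B → Prop := fun Q =>
    ∃ G : B, G ∉ Q.asIdeal ∧ CAlgX.IsH1Regular fun i => algebraMap B (Localization.Away G) (y i)
  -- the coefficients of relations
  let C : Ideal A := Ideal.span {c | ∃ u : Fin r → A, ∑ i, u i * x i = 0 ∧ ∃ i, u i = c}
  have hCp : C ≤ p := Ideal.span_le.2 fun c ⟨u, hu, i, hi⟩ => hi ▸ hind u hu i
  let φ : (Fin r → A) →ₗ[A] A := Fintype.linearCombination A x
  have hrel : ∀ u : Fin r → B, ∑ i, u i * y i = 0 → ∀ i, u i ∈ C.map al := by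
    intro u hu i
    refine Ideal.map_mono (Ideal.span_le.2 ?_) (QRDescent.coeff_mem_of_rel x u hu i)
    rintro _ ⟨v, hv, rfl⟩
    exact Ideal.subset_span ⟨v, hv, i, rfl⟩
  have hy : ∀ {Q : PrimeSpectrum B}, (∀ i, y i ∈ Q.asIdeal) → (Good Q ↔ C.map al ≤ Q.asIdeal) := by
    intro Q hQ
    refine ⟨fun ⟨G, hG, hex⟩ => ?_, fun hC => ?_⟩
    · rw [Ideal.map_le_iff_le_comap]
      refine Ideal.span_le.2 fun c ⟨u, hu, i, hi⟩ => ?_
      subst hi
      have h1 := mem_of_h1_rel hex (fun i => algebraMap B (Localization.Away G) (al (u i))) (by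
        simp only [y, ← map_mul, ← map_sum, hu, map_zero]) i
      obtain ⟨hQ', hQc⟩ := exists_prime_of_away (Localization.Away G) Q.asIdeal hG
      show al (u i) ∈ Q.asIdeal
      rw [← hQc]
      exact Ideal.span_le.2 (Set.range_subset_iff.2 fun j =>
        Ideal.mem_map_of_mem (algebraMap B (Localization.Away G)) (hQ j)) h1
    · exact exists_h1_nhd Q.asIdeal y hQ (hK Q.asIdeal Q.2 hQ) fun u hu i => hC (hrel u hu i)
  let bad : Set (PrimeSpectrum B) := {Q | (∀ i, y i ∈ Q.asIdeal) ∧ ¬ Good Q}
  have hbad : IsClosed bad := by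
    rw [← isOpen_compl_iff]
    refine isOpen_iff_forall_mem_open.2 fun Q hQ => ?_
    by_cases hy' : ∀ i, y i ∈ Q.asIdeal
    · obtain ⟨G, hG, hex⟩ := not_not.1 fun h => hQ ⟨hy', h⟩
      exact ⟨PrimeSpectrum.basicOpen G, fun Q' hQ' h' => h'.2 ⟨G, hQ', hex⟩, PrimeSpectrum.isOpen_basicOpen, hG⟩
    · push_neg at hy'
      obtain ⟨i, hi⟩ := hy'
      exact ⟨PrimeSpectrum.basicOpen (y i), fun Q' hQ' h' => hQ' (h'.1 i), PrimeSpectrum.isOpen_basicOpen, hi⟩
  have hst : StableUnderSpecialization (PrimeSpectrum.comap al '' bad) := by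
    rintro a b hab ⟨Qa, hQa, rfl⟩
    rw [← PrimeSpectrum.le_iff_specializes] at hab
    obtain ⟨Qb, rfl⟩ := PrimeSpectrum.comap_surjective_of_faithfullyFlat (A := A) (B := B) b
    haveI := Qb.2
    haveI : Qb.asIdeal.LiesOver (Qb.asIdeal.comap al) := ⟨rfl⟩
    obtain ⟨Q', hle, hQ', hover⟩ := Ideal.exists_ideal_le_liesOver_of_le Qb.asIdeal
      (p := (PrimeSpectrum.comap al Qa).asIdeal) (q := Qb.asIdeal.comap al) hab
    haveI := hQ'
    have hc : Q'.comap al = Qa.asIdeal.comap al := hover.over.symm
    have hyQ' : ∀ i, y i ∈ Q' := fun i => by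
      show x i ∈ Q'.comap al
      rw [hc]
      exact hQa.1 i
    refine ⟨Qb, ⟨fun i => hle (hyQ' i), fun hgood => hQa.2 ?_⟩, rfl⟩
    have hQ'good : Good ⟨Q', hQ'⟩ := by
      obtain ⟨G, hG, hex⟩ := hgood
      exact ⟨G, fun h => hG (hle h), hex⟩
    rw [hy hyQ', Ideal.map_le_iff_le_comap] at hQ'good
    rw [hy hQa.1, Ideal.map_le_iff_le_comap, ← hc]
    exact hQ'good
  have hcl := PrimeSpectrum.isClosed_image_of_stableUnderSpecialization al bad hbad hst
  have hp : (⟨p, inferInstance⟩ : PrimeSpectrum A) ∉ PrimeSpectrum.comap al '' bad := by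
    rintro ⟨Q, hQ, hQp⟩
    have hQp' : Q.asIdeal.comap al = p := congrArg PrimeSpectrum.asIdeal hQp
    refine hQ.2 ((hy hQ.1).2 ?_)
    rw [Ideal.map_le_iff_le_comap, hQp']
    exact hCp
  obtain ⟨_, ⟨_, ⟨g, rfl⟩, rfl⟩, hgp, hg⟩ :=
    PrimeSpectrum.isBasis_basic_opens.exists_subset_of_mem_open hp hcl.isOpen_compl
  refine ⟨g, hgp, ?_⟩
  let T := Localization.Away g
  let B' := T ⊗[A] B
  letI : Algebra B B' := Algebra.TensorProduct.rightAlgebra
  haveI : Module.Flat B B' := Module.Flat.isBaseChange A B T B' (Algebra.IsPushout.out (R := A) (S := B) (R' := T) (S' := B'))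
  refine h1_of_faithfullyFlat (S := B') (h1_of_forall_away fun Q' _ => ?_)
  have hcm : ∀ a : A, algebraMap T B' (algebraMap A T a) = algebraMap B B' (al a) := fun a => by
    rw [← IsScalarTower.algebraMap_apply A T B', ← IsScalarTower.algebraMap_apply A B B']
  let Q : PrimeSpectrum B := ⟨Q'.comap (algebraMap B B'), inferInstance⟩
  by_cases hyQ : ∀ i, y i ∈ Q.asIdeal
  · have hgQ : al g ∉ Q.asIdeal := fun h => by
      have : IsUnit (algebraMap T B' (algebraMap A T g)) := (IsLocalization.Away.algebraMap_isUnit g).map _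
      rw [hcm] at this
      exact (inferInstance : Q'.IsPrime).ne_top (Ideal.eq_top_of_isUnit_mem _ h this)
    have hnb : Q ∉ bad := fun hb => hg (show PrimeSpectrum.comap al Q ∈ _ from hgQ) ⟨Q, hb, rfl⟩
    obtain ⟨G, hG, hex⟩ := not_not.1 fun h => hnb ⟨hyQ, h⟩
    let G' := algebraMap B B' G
    let T' := Localization.Away G'
    haveI : Module.Flat B T' := Module.Flat.trans B B' T'
    have hu : IsUnit (algebraMap B T' G) := by
      rw [IsScalarTower.algebraMap_apply B B' T']
      exact IsLocalization.Away.algebraMap_isUnit G'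
    letI : Algebra (Localization.Away G) T' := (IsLocalization.Away.lift G hu).toAlgebra
    haveI : IsScalarTower B (Localization.Away G) T' := IsScalarTower.of_algebraMap_eq fun x => by
      rw [RingHom.algebraMap_toAlgebra, IsLocalization.Away.lift_eq]
    haveI : Module.Flat (Localization.Away G) T' :=
      (Module.flat_iff_of_isLocalization (Localization.Away G) (Submonoid.powers G) T').2 inferInstance
    have hex' := RegKinds.h1_flat (S := T') hex
    simp only [← IsScalarTower.algebraMap_apply B (Localization.Away G) T'] at hex'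
    refine ⟨G', hG, ?_⟩
    have he : (fun i => algebraMap B' T' (algebraMap T B' (algebraMap A T (x i)))) = fun i => algebraMap B T' (y i) :=
      funext fun i => by rw [hcm, ← IsScalarTower.algebraMap_apply B B' T']
    rw [he]
    exact hex'
  · push_neg at hyQ
    obtain ⟨i, hi⟩ := hyQ
    let G' := algebraMap B B' (y i)
    refine ⟨G', hi, h1_of_span_eq_top (Ideal.eq_top_of_isUnit_mem _ (Ideal.subset_span ⟨i, rfl⟩) ?_)⟩
    show IsUnit (algebraMap B' (Localization.Away G') (algebraMap T B' (algebraMap A T (x i))))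
    rw [show algebraMap T B' (algebraMap A T (x i)) = G' from hcm (x i)]
    exact IsLocalization.Away.algebraMap_isUnit G'

/-- An ideal whose extension to a faithfully flat algebra is locally H1 regular is locally H1 regular. -/
theorem isLocallyH1_of_faithfullyFlat {A B : Type u} [CommRing A] [CommRing B] [Algebra A B]
    [Module.FaithfullyFlat A B] (I : Ideal A) (hK : IsLocallyH1 B (I.map (algebraMap A B))) :
    IsLocallyH1 A I := by
  classical
  have hfg : I.FG := Ideal.FG.of_FG_map_of_faithfullyFlat (S := B) (fg_of_isLocallyH1 _ hK)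
  intro p hp hIp
  haveI := hp
  let A' := Localization.AtPrime p
  obtain ⟨n₀, z, hz⟩ := Submodule.fg_iff_exists_fin_generating_family.1 hfg
  have hexgen : ∃ r, ∃ x : Fin r → A, (∀ i, x i ∈ I) ∧
      ∃ g : A, g ∉ p ∧ ∀ a ∈ I, g * a ∈ Ideal.span (Set.range x) :=
    ⟨n₀, z, fun i => hz ▸ Submodule.subset_span ⟨i, rfl⟩, 1, p.one_notMem,
      fun a ha => by rw [one_mul]; exact hz.ge ha⟩
  obtain ⟨r, ⟨x, hxI, g, hg, hgx⟩, hmin⟩ : ∃ r, (∃ x : Fin r → A, (∀ i, x i ∈ I) ∧
      ∃ g : A, g ∉ p ∧ ∀ a ∈ I, g * a ∈ Ideal.span (Set.range x)) ∧ ∀ r' < r, ¬ ∃ x : Fin r' → A, (∀ i, x i ∈ I) ∧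
      ∃ g : A, g ∉ p ∧ ∀ a ∈ I, g * a ∈ Ideal.span (Set.range x) :=
    ⟨Nat.find hexgen, Nat.find_spec hexgen, fun r' h => Nat.find_min hexgen h⟩
  have hind : ∀ u : Fin r → A, ∑ i, u i * x i = 0 → ∀ i, u i ∈ p := by
    intro u hu i
    by_contra hi
    obtain ⟨r', rfl⟩ : ∃ r', r = r' + 1 := ⟨r - 1, by have := i.2; omega⟩
    refine hmin r' (by omega) ⟨fun j => x (i.succAbove j), fun j => hxI _, u i * g,
      fun h => (hp.mem_or_mem h).elim hi hg, fun a ha => ?_⟩
    obtain ⟨v, hv⟩ := Ideal.mem_span_range_iff_exists_fun.1 (hgx a ha)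
    rw [mul_assoc, ← hv, Finset.mul_sum]
    refine Ideal.sum_mem _ fun j _ => ?_
    by_cases hj : j = i
    · subst hj
      rw [← Finset.add_sum_erase _ _ (Finset.mem_univ j)] at hu
      rw [mul_left_comm, eq_neg_of_add_eq_zero_left hu]
      refine Ideal.mul_mem_left _ _ (neg_mem (Ideal.sum_mem _ fun k hk => ?_))
      obtain ⟨m, rfl⟩ := Fin.exists_succAbove_eq (Finset.ne_of_mem_erase hk)
      exact Ideal.mul_mem_left _ _ (Ideal.subset_span ⟨m, rfl⟩)
    · obtain ⟨m, rfl⟩ := Fin.exists_succAbove_eq hj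
      exact Ideal.mul_mem_left _ _ (Ideal.mul_mem_left _ _ (Ideal.subset_span ⟨m, rfl⟩))
  let T := Localization.Away g
  let B' := T ⊗[A] B
  letI : Algebra B B' := Algebra.TensorProduct.rightAlgebra
  haveI : Module.Flat B B' := Module.Flat.isBaseChange A B T B' (Algebra.IsPushout.out (R := A) (S := B) (R' := T) (S' := B'))
  let xT : Fin r → T := fun i => algebraMap A T (x i)
  have hspan : Ideal.span (Set.range xT) = I.map (algebraMap A T) := by
    refine le_antisymm (Ideal.span_le.2 (Set.range_subset_iff.2 fun i => Ideal.mem_map_of_mem _ (hxI i)))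
      (Ideal.map_le_iff_le_comap.2 fun a ha => ?_)
    rw [Ideal.mem_comap, ← Ideal.unit_mul_mem_iff_mem _ (IsLocalization.Away.algebraMap_isUnit (S := T) g), ← map_mul]
    have := Ideal.mem_map_of_mem (algebraMap A T) (hgx a ha)
    rwa [Ideal.map_span, ← Set.range_comp] at this
  have hB' : Ideal.span (Set.range fun i => algebraMap T B' (xT i)) =
      (I.map (algebraMap A B)).map (algebraMap B B') := by
    have h1 : Ideal.span (Set.range fun i => algebraMap T B' (xT i)) =
        (Ideal.span (Set.range xT)).map (algebraMap T B') := by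
      rw [Ideal.map_span, ← Set.range_comp]
      rfl
    rw [h1, hspan, Ideal.map_map, Ideal.map_map, ← IsScalarTower.algebraMap_eq A T B',
      ← IsScalarTower.algebraMap_eq A B B']
  obtain ⟨hpT, hpc⟩ := exists_prime_of_away T p hg
  let pT := p.map (algebraMap A T)
  obtain ⟨h, hh, hex⟩ := exists_h1_of_ff (A := T) (B := B') xT pT (fun u hu i => by
      obtain ⟨s, hs⟩ := IsLocalization.exist_integer_multiples_of_finite (Submonoid.powers g) u
      choose v hv using hs
      have h1 : algebraMap A T (∑ j, v j * x j) = 0 := by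
        rw [map_sum, ← mul_zero (algebraMap A T s), ← hu, Finset.mul_sum]
        exact Finset.sum_congr rfl fun j _ => by rw [map_mul, hv, Algebra.smul_def, mul_assoc]
      obtain ⟨⟨s', hs'⟩, hs0⟩ := (IsLocalization.map_eq_zero_iff (Submonoid.powers g) T _).1 h1
      have hv' := hind (fun j => s' * v j) (by simpa only [Finset.mul_sum, mul_assoc] using hs0) i
      have hnot : s' ∉ p := by
        obtain ⟨k, rfl⟩ := hs'
        exact fun hk => hg (hp.mem_of_pow_mem k hk)
      have h2 : algebraMap A T (v i) ∈ pT := Ideal.mem_map_of_mem _ ((hp.mem_or_mem hv').resolve_left hnot)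
      rwa [hv, Algebra.smul_def, Ideal.unit_mul_mem_iff_mem _ (IsLocalization.map_units T s)] at h2)
    (fun i => Ideal.mem_map_of_mem _ (hIp (hxI i))) (fun Q hQ hxQ => by
      haveI := hQ
      rw [hB']
      have hle : I.map (algebraMap A B) ≤ Q.comap (algebraMap B B') := by
        rw [← Ideal.map_le_iff_le_comap, ← hB']
        exact Ideal.span_le.2 (Set.range_subset_iff.2 hxQ)
      obtain ⟨g₀, hg₀, hon⟩ := H1Near.exists_on (hK (Q.comap (algebraMap B B')) hle)
      let T₀ := Localization.Away (algebraMap B B' g₀)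
      haveI : Module.Flat B T₀ := Module.Flat.trans B B' T₀
      obtain ⟨r₀, f₀, hf₀, hI₀⟩ := hon T₀ (by
        rw [IsScalarTower.algebraMap_apply B B' T₀]
        exact IsLocalization.Away.algebraMap_isUnit (algebraMap B B' g₀))
      refine ⟨algebraMap B B' g₀, hg₀, r₀, f₀, hf₀, ?_⟩
      rw [hI₀, IsScalarTower.algebraMap_eq B B' T₀, ← Ideal.map_map])
  let T' := Localization.Away h
  obtain ⟨G, hG, hGT⟩ := Groth.Agent.KRegLib.exists_away_away T p hg h hh T'
  haveI := hGT
  let eq : T' ≃ₐ[A] Localization.Away G := IsLocalization.algEquiv (Submonoid.powers G) _ _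
  letI : Algebra T' (Localization.Away G) := eq.toAlgHom.toRingHom.toAlgebra
  haveI : Module.Flat T' (Localization.Away G) := RingHom.Flat.of_bijective (f := eq.toAlgHom.toRingHom) eq.bijective
  refine ⟨G, hG, r, fun i => algebraMap T' (Localization.Away G) (algebraMap T T' (xT i)), RegKinds.h1_flat hex, ?_⟩
  rw [← QRDescent.map_span_range (fun i => algebraMap T T' (xT i)), ← QRDescent.map_span_range xT, hspan, Ideal.map_map,
    Ideal.map_map, RingHom.comp_assoc, ← IsScalarTower.algebraMap_eq A T T']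
  congr 1
  exact RingHom.ext fun x => eq.commutes x

end Groth.Agent.RegKinds
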