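import Groth.Agent.KRegLib.Kinds

/-!
# Implications between the kinds of regular immersions
-/

set_option autoImplicit false

universe u

open CategoryTheory AlgebraicGeometry

namespace Groth.Agent.RegKinds

theorem mono_kind {Z X : Scheme.{u}} {i : Z ⟶ X} {k k' : RegImm.Kind}
    (H : ∀ (R : Type u) [CommRing R] (rs : List R), k.Seq R rs → k'.Seq R rs)
    (hi : RegImm.IsRegularImmersion k i) : RegImm.IsRegularImmersion k' i :=
  ⟨hi.1, fun z => by
    obtain ⟨U, hz, hc, rs, hrs, hker⟩ := hi.2 z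
    exact ⟨U, hz, hc, rs, H _ rs hrs, hker⟩⟩

theorem koszul_of_regular {Z X : Scheme.{u}} {i : Z ⟶ X} (hi : RegImm.IsRegularImmersion .regular i) :
    RegImm.IsRegularImmersion .koszul i :=
  mono_kind (k := .regular) (fun _ _ _ h => KRegLib.seq_of_isRegular _ _ h) hi

theorem h1_of_koszul {Z X : Scheme.{u}} {i : Z ⟶ X} (hi : RegImm.IsRegularImmersion .koszul i) :
    RegImm.IsRegularImmersion .h1 i :=
  mono_kind (k := .koszul) (fun _ _ rs h => KRegLib.h1_of_koszul rs h) hi

theorem quasi_of_h1 {Z X : Scheme.{u}} {i : Z ⟶ X} (hi : RegImm.IsRegularImmersion .h1 i) :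
    RegImm.IsRegularImmersion .quasi i :=
  mono_kind (k := .h1) (fun _ _ rs h => KRegLib.quasi_of_seq .h1 rs h) hi

end Groth.Agent.RegKinds
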