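import Groth.Agent.RegKinds.Imm
import Groth.Agent.RegKinds.H1Descent

/-!
# fpqc descent of the kinds of regular immersions
-/

set_option autoImplicit false
set_option linter.style.haveILetI false

universe u

open AlgebraicGeometry CategoryTheory
open Groth.Agent.KRegLib Groth.Agent.RegImmLib

namespace Groth.Agent.RegKinds

variable {k : RegImm.Kind}

/-- The ideal becomes generated by a sequence of kind `k` in the algebra. -/
def OnK (k : RegImm.Kind) {P : Type u} [CommRing P] (I : Ideal P) (T : Type u) [CommRing T] [Algebra P T] : Prop :=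
  ∃ (n : ℕ) (f : Fin n → T), SeqP k f ∧ I.map (algebraMap P T) = Ideal.span (Set.range f)

/-- Near the prime the ideal is generated by a sequence of kind `k`. -/
def NearK (k : RegImm.Kind) {P : Type u} [CommRing P] (I 𝔭 : Ideal P) : Prop :=
  ∃ g : P, g ∉ 𝔭 ∧ OnK k I (Localization.Away g)

/-- Locally generated by a sequence of kind `k`. -/
def IsLocK (k : RegImm.Kind) {P : Type u} [CommRing P] (I : Ideal P) : Prop :=
  ∀ 𝔭 : Ideal P, 𝔭.IsPrime → I ≤ 𝔭 → NearK k I 𝔭

theorem OnK.map {P : Type u} [CommRing P] {I : Ideal P} {T : Type u} [CommRing T] [Algebra P T] (T' : Type u)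
    [CommRing T'] [Algebra P T'] [Algebra T T'] [IsScalarTower P T T'] [Module.Flat T T'] (h : OnK k I T) :
    OnK k I T' := by
  obtain ⟨n, f, hf, hI⟩ := h
  refine ⟨n, fun i => algebraMap T T' (f i), seqP_map hf, ?_⟩
  rw [IsScalarTower.algebraMap_eq P T T', ← Ideal.map_map, hI, Ideal.map_span, ← Set.range_comp]
  rfl

theorem NearK.exists_on {P : Type u} [CommRing P] {I 𝔭 : Ideal P} (h : NearK k I 𝔭) :
    ∃ g : P, g ∉ 𝔭 ∧ ∀ (T : Type u) [CommRing T] [Algebra P T] [Module.Flat P T],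
      IsUnit (algebraMap P T g) → OnK k I T := by
  obtain ⟨g, hg, hK⟩ := h
  refine ⟨g, hg, fun T _ _ _ hu => ?_⟩
  letI : Algebra (Localization.Away g) T := (IsLocalization.Away.lift g hu).toAlgebra
  haveI : IsScalarTower P (Localization.Away g) T := IsScalarTower.of_algebraMap_eq fun x => by
    rw [RingHom.algebraMap_toAlgebra, IsLocalization.Away.lift_eq]
  haveI : Module.Flat (Localization.Away g) T :=
    (Module.flat_iff_of_isLocalization (Localization.Away g) (Submonoid.powers g) T).2 inferInstance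
  exact hK.map T

theorem NearK.of_on {P : Type u} [CommRing P] {I 𝔭 : Ideal P} (g : P) (hg : g ∉ 𝔭) (T : Type u) [CommRing T]
    [Algebra P T] [IsLocalization.Away g T] (h : OnK k I T) : NearK k I 𝔭 := by
  let e : T ≃ₐ[P] Localization.Away g := IsLocalization.algEquiv (Submonoid.powers g) _ _
  letI : Algebra T (Localization.Away g) := e.toAlgHom.toRingHom.toAlgebra
  haveI : IsScalarTower P T (Localization.Away g) := IsScalarTower.of_algebraMap_eq fun x => (e.commutes x).symm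
  haveI : Module.Flat T (Localization.Away g) := RingHom.Flat.of_bijective (f := e.toAlgHom.toRingHom) e.bijective
  exact ⟨g, hg, h.map _⟩

theorem isLocK_of_faithfullyFlat (hk : k ≠ .regular) {A B : Type u} [CommRing A] [CommRing B] [Algebra A B]
    [Module.FaithfullyFlat A B] (I : Ideal A) (h : IsLocK k (I.map (algebraMap A B))) : IsLocK k I := by
  cases k with
  | regular => exact absurd rfl hk
  | koszul =>
    exact (isKoszulRegularIdeal_iff I).1
      (isKoszulRegularIdeal_of_faithfullyFlat (B := B) I ((isKoszulRegularIdeal_iff _).2 h))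
  | h1 =>
    have h' : IsLocallyH1 B (I.map (algebraMap A B)) := fun p hp hle => by
      obtain ⟨g, hg, n, f, hf, hI⟩ := h p hp hle
      exact ⟨g, hg, n, f, hf, hI.symm⟩
    intro p hp hle
    haveI := hp
    obtain ⟨g, hg, n, f, hf, hI⟩ := isLocallyH1_of_faithfullyFlat I h' p hle
    exact ⟨g, hg, n, f, hf, hI.symm⟩
  | quasi =>
    have h' : PP16.IsLocallyQuasiRegular B (I.map (algebraMap A B)) := fun p hp hle => by
      obtain ⟨g, hg, n, f, hf, hI⟩ := h p hp hle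
      exact ⟨g, hg, n, f, hf, hI.symm⟩
    intro p hp hle
    haveI := hp
    obtain ⟨g, hg, n, f, hf, hI⟩ := Synt29.QRDescent.isLocallyQuasiRegular_of_faithfullyFlat I h' p hle
    exact ⟨g, hg, n, f, hf, hI.symm⟩

theorem nearK_of_kindAt {Z P : Scheme.{u}} (i : Z ⟶ P) (z : Z) (h : KindAt k i z) {D : P.Opens}
    (hD : IsAffineOpen D) (hzD : i z ∈ D) [IsClosedImmersion (i ∣_ D)] :
    NearK k (RingHom.ker (i.app D).hom) (hD.primeIdealOf ⟨i z, hzD⟩).asIdeal := by
  obtain ⟨W, hW, hzW, hci, m, f₀, hf₀, hker⟩ := h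
  obtain ⟨hD', hDs⟩ := Synt29.surjective_app_of_isClosedImmersion_restrict i D hD
  obtain ⟨g, g', hgg, hzg⟩ := exists_basicOpen_le_affine_inter hD hW (i z) ⟨hzD, hzW⟩
  letI : Algebra Γ(P, D) Γ(P, P.basicOpen g) := (P.presheaf.map (homOfLE (P.basicOpen_le g)).op).hom.toAlgebra
  haveI : IsLocalization.Away g Γ(P, P.basicOpen g) := hD.isLocalization_basicOpen g
  have hgp : g ∉ (hD.primeIdealOf ⟨i z, hzD⟩).asIdeal := by
    intro hmem
    have : hD.primeIdealOf ⟨i z, hzD⟩ ∈ PrimeSpectrum.basicOpen g := by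
      rw [← hD.fromSpec_preimage_basicOpen g]
      show hD.fromSpec (hD.primeIdealOf ⟨i z, hzD⟩) ∈ P.basicOpen g
      rw [hD.fromSpec_primeIdealOf]
      exact hzg
    exact this hmem
  refine NearK.of_on g hgp Γ(P, P.basicOpen g) ?_
  obtain ⟨f, hf, hfI⟩ := restrict_basicOpen' i g' hf₀ hker hW
  have key : ∀ (O : P.Opens) (_ : O = P.basicOpen g'), ∃ (n : ℕ) (f : Fin n → Γ(P, O)), SeqP k f ∧
      RingHom.ker (i.app O).hom = Ideal.span (Set.range f) := by
    rintro O rfl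
    exact ⟨m, f, hf, hfI⟩
  obtain ⟨n', f', hf', hfI'⟩ := key (P.basicOpen g) hgg
  exact ⟨n', f', hf', ((app_basicOpen_props i hD hD' hDs g).2.2).symm.trans hfI'⟩

/-- fpqc descent of the kinds Koszul, H1 and quasi. -/
theorem isRegularImmersion_of_covering (hk0 : k ≠ .regular) {X Y X' Y' : Scheme.{u}} (i : Y ⟶ X) [IsImmersion i]
    (g : X' ⟶ X) [Flat g]
    (hg : ∀ U : X.Opens, IsAffineOpen U → ∃ C : X'.Opens, IsCompact (C : Set X') ∧ C ≤ g ⁻¹ᵁ U ∧
      ∀ x ∈ U, ∃ x' ∈ C, g x' = x)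
    (i' : Y' ⟶ X') (g' : Y' ⟶ Y) (hsq : IsPullback g' i' i g)
    (hi' : RegImm.IsRegularImmersion k i') : RegImm.IsRegularImmersion k i := by
  refine ⟨inferInstance, fun z => ?_⟩
  obtain ⟨U, hU, hzU, -, hci⟩ := exists_affine_isClosedImmersion_restrict i z ⊤ trivial
  obtain ⟨C, hC, hCU, hCs⟩ := hg U hU
  haveI : CompactSpace (C : X'.Opens) := isCompact_iff_compactSpace.1 hC
  obtain ⟨W, p, hp, hpl, hW⟩ :=
    C.toScheme.exists_hom_isAffine_of_isZariskiLocalAtSource @IsLocalIso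
  haveI : Flat p := (IsLocalIso.le_of_isZariskiLocalAtSource @Flat) _ _ p hpl
  let q : W ⟶ X' := p ≫ C.ι
  let Y'' := Limits.pullback i' q
  let i'' : Y'' ⟶ W := Limits.pullback.snd i' q
  have hsq'' : IsPullback (Limits.pullback.fst i' q ≫ g') i'' i (q ≫ g) :=
    (IsPullback.of_hasPullback i' q).paste_horiz hsq
  have hi'' : RegImm.IsRegularImmersion k i'' :=
    isRegularImmersion_baseChange hk0 (IsPullback.of_hasPullback i' q) hi'
  have hle : (⊤ : W.Opens) ≤ (q ≫ g) ⁻¹ᵁ U := fun w _ => hCU (p w).2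
  obtain ⟨hUY, hUs⟩ := Synt29.surjective_app_of_isClosedImmersion_restrict i U hU
  have hWtop : IsAffineOpen (⊤ : W.Opens) := isAffineOpen_top W
  have hUY' : i'' ⁻¹ᵁ ⊤ = (Limits.pullback.fst i' q ≫ g') ⁻¹ᵁ (i ⁻¹ᵁ U) ⊓ i'' ⁻¹ᵁ ⊤ := by
    refine (inf_eq_right.2 fun y hy => ?_).symm
    show i ((Limits.pullback.fst i' q ≫ g') y) ∈ U
    have h1 : i ((Limits.pullback.fst i' q ≫ g') y) = (q ≫ g) (i'' y) :=
      congrArg (fun φ : Y'' ⟶ X => φ y) hsq''.w
    rw [h1]
    exact hle hy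
  have hpo := (isIso_pushoutSection_iff hsq'' hle le_rfl hUY').1
    (isIso_pushoutSection_of_isAffineOpen hsq'' hle le_rfl hUY' hU hWtop hUY)
  have hs : Function.Surjective (i.appLE U (i ⁻¹ᵁ U) le_rfl) := by
    rw [← Scheme.Hom.app_eq_appLE]
    exact hUs
  have hk := ker_of_isPushout hpo hs
  rw [← Scheme.Hom.app_eq_appLE, ← Scheme.Hom.app_eq_appLE] at hk
  -- the ring map is faithfully flat
  letI : Algebra Γ(X, U) Γ(W, ⊤) := ((q ≫ g).appLE U ⊤ hle).hom.toAlgebra
  haveI : Module.FaithfullyFlat Γ(X, U) Γ(W, ⊤) := by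
    haveI hflat : Module.Flat Γ(X, U) Γ(W, ⊤) := (q ≫ g).flat_appLE hU hWtop hle
    refine RingHom.FaithfullyFlat.iff_flat_and_comap_surjective.2 ⟨hflat, fun P => ?_⟩
    have hPU : hU.fromSpec P ∈ U := by
      have h0 : hU.fromSpec P ∈ Set.range hU.fromSpec := ⟨P, rfl⟩
      rwa [hU.range_fromSpec] at h0
    obtain ⟨x', hxU, hx'⟩ := hCs _ hPU
    haveI := hp
    obtain ⟨w, hw⟩ := p.surjective ⟨x', hxU⟩
    refine ⟨hWtop.primeIdealOf ⟨w, trivial⟩, hU.fromSpec.isOpenEmbedding.injective ?_⟩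
    show (Spec.map ((q ≫ g).appLE U ⊤ hle) ≫ hU.fromSpec) _ = _
    rw [IsAffineOpen.SpecMap_appLE_fromSpec (q ≫ g) hU hWtop hle]
    show (q ≫ g) (hWtop.fromSpec _) = _
    rw [hWtop.fromSpec_primeIdealOf]
    show g (C.ι (p w)) = _
    rw [hw]
    exact hx'
  -- the extended ideal is regular of kind k
  haveI : IsClosedImmersion (i'' ∣_ ⊤) := by
    have h2 := Scheme.Hom.isPullback_resLE hsq'' hle le_rfl hUY'
    have h3 : IsClosedImmersion (i.resLE U (i ⁻¹ᵁ U) le_rfl) := by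
      rw [Scheme.Hom.resLE_eq_morphismRestrict]
      exact hci
    rw [← Scheme.Hom.resLE_eq_morphismRestrict]
    exact MorphismProperty.of_isPullback (P := @IsClosedImmersion) h2 h3
  obtain ⟨hY'', hsW⟩ := Synt29.surjective_app_of_isClosedImmersion_restrict i'' ⊤ hWtop
  have hKW : IsLocK k (RingHom.ker (i''.app ⊤).hom) := by
    intro P hP hle'
    let Q : Ideal Γ(Y'', i'' ⁻¹ᵁ ⊤) := P.map (i''.app ⊤).hom
    haveI : Q.IsPrime := Ideal.map_isPrime_of_surjective hsW hle'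
    let y : Y'' := hY''.fromSpec ⟨Q, inferInstance⟩
    have hy : i'' y = hWtop.fromSpec ⟨P, hP⟩ := by
      have h1 := IsAffineOpen.SpecMap_appLE_fromSpec i'' hWtop hY'' le_rfl
      show (hY''.fromSpec ≫ i'') _ = _
      rw [← h1]
      show hWtop.fromSpec (Spec.map _ _) = _
      congr 1
      apply PrimeSpectrum.ext
      show Q.comap (i''.appLE ⊤ (i'' ⁻¹ᵁ ⊤) le_rfl).hom = P
      rw [← Scheme.Hom.app_eq_appLE]
      show (P.map (i''.app ⊤).hom).comap (i''.app ⊤).hom = P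
      rw [Ideal.comap_map_of_surjective _ hsW, ← RingHom.ker_eq_comap_bot, sup_eq_left]
      exact hle'
    have h := nearK_of_kindAt i'' y ((kindAt_iff hk0 i'' y).1 (hi''.2 y)) hWtop trivial
    have hp' : hWtop.primeIdealOf ⟨i'' y, trivial⟩ = ⟨P, hP⟩ :=
      hWtop.fromSpec.isOpenEmbedding.injective ((hWtop.fromSpec_primeIdealOf _).trans hy)
    rw [hp'] at h
    exact h
  have hKU : IsLocK k (RingHom.ker (i.app U).hom) :=
    isLocK_of_faithfullyFlat (B := Γ(W, ⊤)) hk0 _ (hk ▸ hKW)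
  have hle0 : RingHom.ker (i.app U).hom ≤ (hU.primeIdealOf ⟨i z, hzU⟩).asIdeal := by
    have h1 := IsAffineOpen.SpecMap_appLE_fromSpec i hU hUY le_rfl
    have h2 : hU.primeIdealOf ⟨i z, hzU⟩ = Spec.map (i.appLE U (i ⁻¹ᵁ U) le_rfl) (hUY.primeIdealOf ⟨z, hzU⟩) := by
      apply hU.fromSpec.isOpenEmbedding.injective
      rw [hU.fromSpec_primeIdealOf]
      show i z = (Spec.map _ ≫ hU.fromSpec) _
      rw [h1]
      show i z = i (hUY.fromSpec _)
      rw [hUY.fromSpec_primeIdealOf]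
    rw [h2, ← Scheme.Hom.app_eq_appLE]
    exact fun a ha => by
      show (i.app U).hom a ∈ (hUY.primeIdealOf ⟨z, hzU⟩).asIdeal
      rw [(RingHom.mem_ker).1 ha]
      exact zero_mem _
  obtain ⟨G, hG, hon⟩ := (hKU _ inferInstance hle0).exists_on
  letI : Algebra Γ(X, U) Γ(X, X.basicOpen G) := (X.presheaf.map (homOfLE (X.basicOpen_le G)).op).hom.toAlgebra
  haveI : IsLocalization.Away G Γ(X, X.basicOpen G) := hU.isLocalization_basicOpen G
  haveI : Module.Flat Γ(X, U) Γ(X, X.basicOpen G) := IsLocalization.flat _ (Submonoid.powers G)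
  obtain ⟨n, f, hf, hfI⟩ := hon Γ(X, X.basicOpen G) (IsLocalization.Away.algebraMap_isUnit G)
  refine (kindAt_iff hk0 i z).2 ⟨X.basicOpen G, hU.basicOpen G, ?_,
    isClosedImmersion_restrict_of_le i (X.basicOpen_le G), n, f, hf,
    ((app_basicOpen_props i hU hUY hUs G).2.2).trans hfI⟩
  rw [← hU.fromSpec_image_basicOpen G]
  exact ⟨hU.primeIdealOf ⟨i z, hzU⟩, hG, hU.fromSpec_primeIdealOf _⟩

/-- Descent along a faithfully flat quasi-compact morphism. -/
theorem isRegularImmersion_of_fpqc (hk0 : k ≠ .regular) {X Y X' Y' : Scheme.{u}} (i : Y ⟶ X) [IsImmersion i]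
    (g : X' ⟶ X) [Flat g] [Surjective g] [QuasiCompact g]
    (i' : Y' ⟶ X') (g' : Y' ⟶ Y) (hsq : IsPullback g' i' i g)
    (hi' : RegImm.IsRegularImmersion k i') : RegImm.IsRegularImmersion k i :=
  isRegularImmersion_of_covering hk0 i g (fun U hU => ⟨g ⁻¹ᵁ U,
    QuasiCompact.isCompact_preimage (f := g) U U.2 hU.isCompact, le_rfl, fun x hx => by
      obtain ⟨x', hx'⟩ := g.surjective x
      exact ⟨x', show g x' ∈ U from hx'.symm ▸ hx, hx'⟩⟩) i' g' hsq hi'

/-- Descent along a surjective flat morphism which is open. -/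
theorem isRegularImmersion_of_open (hk0 : k ≠ .regular) {X Y X' Y' : Scheme.{u}} (i : Y ⟶ X) [IsImmersion i]
    (g : X' ⟶ X) [Flat g] [Surjective g] (hopen : IsOpenMap g)
    (i' : Y' ⟶ X') (g' : Y' ⟶ Y) (hsq : IsPullback g' i' i g)
    (hi' : RegImm.IsRegularImmersion k i') : RegImm.IsRegularImmersion k i := by
  classical
  refine isRegularImmersion_of_covering hk0 i g (fun U hU => ?_) i' g' hsq hi'
  let ι := {V : X'.Opens // IsAffineOpen V ∧ V ≤ g ⁻¹ᵁ U}
  have hcov : (U : Set X) ⊆ ⋃ V : ι, g '' (V.1 : Set X') := fun x hx => by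
    obtain ⟨x', hx'⟩ := g.surjective x
    obtain ⟨V, hV, hxV, hVU⟩ := exists_isAffineOpen_mem_and_subset (U := g ⁻¹ᵁ U) (x := x')
      (show g x' ∈ U from hx'.symm ▸ hx)
    exact Set.mem_iUnion.2 ⟨⟨V, hV, hVU⟩, x', hxV, hx'⟩
  obtain ⟨t, ht⟩ := hU.isCompact.elim_finite_subcover _ (fun V : ι => hopen _ V.1.2) hcov
  refine ⟨⨆ V ∈ t, V.1, ?_, iSup₂_le fun V _ => V.2.2, fun x hx => ?_⟩
  · simp only [TopologicalSpace.Opens.coe_iSup]
    exact t.finite_toSet.isCompact_biUnion fun V _ => V.2.1.isCompact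
  · obtain ⟨V, hVt, x', hx', h⟩ := Set.mem_iUnion₂.1 (ht hx)
    exact ⟨x', TopologicalSpace.Opens.mem_iSup.2 ⟨V, TopologicalSpace.Opens.mem_iSup.2 ⟨hVt, hx'⟩⟩, h⟩

end Groth.Agent.RegKinds
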