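import Mathlib
import Groth.Agent.RegKinds.FPQC
import Groth.Agent.LocalCrit.Complete

/-!
# Cancellation: the tail of an H1 or quasi regular sequence modulo its head
-/

set_option autoImplicit false
set_option linter.style.haveILetI false
set_option backward.isDefEq.respectTransparency.types false

universe u

open MvPolynomial

namespace Groth.Agent.RegKinds

variable {A N : Type u} [CommRing A] [CommRing N] {r t : ℕ} (F : Fin r → A) (a : Fin t → A) (q : A →+* N)

theorem span_range_append : Ideal.span (Set.range (Fin.append F a)) =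
    Ideal.span (Set.range F) ⊔ Ideal.span (Set.range a) := by
  rw [← Ideal.span_union]
  congr 1
  ext x
  constructor
  · rintro ⟨i, rfl⟩
    induction i using Fin.addCases with
    | left i => exact Or.inl ⟨i, by simp⟩
    | right i => exact Or.inr ⟨i, by simp⟩
  · rintro (⟨i, rfl⟩ | ⟨i, rfl⟩)
    · exact ⟨Fin.castAdd t i, by simp⟩
    · exact ⟨Fin.natAdd r i, by simp⟩

/-- The tail of an H1 regular sequence is H1 regular modulo the head. -/
theorem h1_cancel (hq : Function.Surjective q) (hker : RingHom.ker q = Ideal.span (Set.range F))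
    (h : CAlgX.IsH1Regular (Fin.append F a)) : CAlgX.IsH1Regular fun j => q (a j) := by
  classical
  intro u hu
  choose v hv using fun j => hq (u j)
  have hmem : ∑ j, v j * a j ∈ Ideal.span (Set.range F) := by
    rw [← hker, RingHom.mem_ker, map_sum, ← hu]
    exact Finset.sum_congr rfl fun j _ => by rw [map_mul, hv]
  obtain ⟨b, hb⟩ := Ideal.mem_span_range_iff_exists_fun.1 hmem
  let ψ : (Fin (r + t) → A) → (Fin t → N) := fun w j => q (w (Fin.natAdd r j))
  have hψ : ∀ w ∈ trivRel (Fin.append F a), ψ w ∈ trivRel fun j => q (a j) := by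
    intro w hw
    induction hw using Submodule.span_induction with
    | mem x hx =>
      obtain ⟨i, k, rfl⟩ := hx
      have hF : ∀ i, q (F i) = 0 := fun i => RingHom.mem_ker.1 (hker ▸ Ideal.subset_span ⟨i, rfl⟩)
      induction i using Fin.addCases with
      | left i =>
        induction k using Fin.addCases with
        | left k =>
          rw [show ψ _ = 0 from funext fun j => by
            simp only [ψ, Pi.sub_apply, Fin.append_left, Pi.single_apply, map_sub]
            split_ifs <;> simp_all [Fin.ext_iff] <;> omega]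
          exact zero_mem _
        | right k =>
          rw [show ψ _ = 0 from funext fun j => by
            simp only [ψ, Pi.sub_apply, Fin.append_left, Fin.append_right, Pi.single_apply, map_sub]
            split_ifs <;> simp_all [Fin.ext_iff] <;> omega]
          exact zero_mem _
      | right i =>
        induction k using Fin.addCases with
        | left k =>
          rw [show ψ _ = 0 from funext fun j => by
            simp only [ψ, Pi.sub_apply, Fin.append_left, Fin.append_right, Pi.single_apply, map_sub]
            split_ifs <;> simp_all [Fin.ext_iff] <;> omega]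
          exact zero_mem _
        | right k =>
          refine Submodule.subset_span ⟨i, k, funext fun j => ?_⟩
          simp only [ψ, Pi.sub_apply, Fin.append_right, Pi.single_apply, map_sub, apply_ite q, map_zero,
            Fin.natAdd_inj]
    | zero => rw [show ψ 0 = 0 from funext fun j => map_zero q]; exact zero_mem _
    | add x y _ _ hx hy =>
      rw [show ψ (x + y) = ψ x + ψ y from funext fun j => map_add q _ _]
      exact add_mem hx hy
    | smul c x _ hx =>
      rw [show ψ (c • x) = q c • ψ x from funext fun j => map_mul q _ _]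
      exact Submodule.smul_mem _ _ hx
  have h1 := h (Fin.append (fun i => -b i) v) (by
    rw [Fin.sum_univ_add]
    simp only [Fin.append_left, Fin.append_right, neg_mul, Finset.sum_neg_distrib, hb]
    exact neg_add_cancel _)
  have h2 := hψ _ h1
  rwa [show ψ (Fin.append (fun i => -b i) v) = u from funext fun j => by simp [ψ, hv]] at h2

/-- Elements of the head meeting a power of the ideal of a quasi-regular sequence. -/
theorem mem_mul_pow_of_quasi (h : CAlgX.IsQuasiRegular (Fin.append F a)) (m : ℕ) (x : A)
    (hx : x ∈ Ideal.span (Set.range F)) (hxJ : x ∈ Ideal.span (Set.range (Fin.append F a)) ^ (m + 1)) :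
    ∃ P' : MvPolynomial (Fin (r + t)) A, P'.IsHomogeneous (m + 1) ∧ eval (Fin.append F a) P' = x ∧
      ∀ d : Fin t →₀ ℕ, P'.coeff (d.mapDomain (Fin.natAdd r)) = 0 := by
  classical
  set y := Fin.append F a with hy
  set J := Ideal.span (Set.range y)
  set S : Set (Fin (r + t)) := Set.range (Fin.castAdd t)
  -- polynomial representatives of `(F) * J ^ m`
  have rep : ∀ (m : ℕ) (x : A), x ∈ Ideal.span (Set.range F) * J ^ m →
      ∃ P' : MvPolynomial (Fin (r + t)) A, P'.IsHomogeneous (m + 1) ∧ eval y P' = x ∧
        P' ∈ Ideal.span (X '' S) := by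
    intro m x hx
    induction hx using Submodule.mul_induction_on' with
    | mem_mul_mem b hb c hc =>
      obtain ⟨β, rfl⟩ := Ideal.mem_span_range_iff_exists_fun.1 hb
      obtain ⟨Q, hQ, rfl⟩ := LocalCrit.exists_isHomogeneous_eval_eq y hc
      refine ⟨(∑ i, C (β i) * X (Fin.castAdd t i)) * Q, ?_, ?_, ?_⟩
      · rw [add_comm m 1]
        refine (IsHomogeneous.sum _ _ _ fun i _ => ?_).mul hQ
        simpa using (isHomogeneous_C (Fin (r + t)) (β i)).mul (isHomogeneous_X A (Fin.castAdd t i))
      · simp [y]
      · exact Ideal.mul_mem_right _ _ (sum_mem fun i _ => Ideal.mul_mem_left _ _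
          (Ideal.subset_span ⟨_, ⟨i, rfl⟩, rfl⟩))
    | add b _ c _ hb hc =>
      obtain ⟨P₁, h₁, rfl, h₁'⟩ := hb
      obtain ⟨P₂, h₂, rfl, h₂'⟩ := hc
      exact ⟨P₁ + P₂, h₁.add h₂, map_add _ _ _, add_mem h₁' h₂'⟩
  have step : ∀ m, x ∈ J ^ (m + 1) → x ∈ Ideal.span (Set.range F) * J ^ m := by
    intro m
    induction m with
    | zero => intro _; rw [pow_zero, Ideal.one_eq_top, Ideal.mul_top]; exact hx
    | succ m ih =>
      intro hxm
      obtain ⟨P', hP', hPx, hPS⟩ := rep m x (ih (Ideal.pow_le_pow_right (Nat.le_succ _) hxm))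
      rw [← hPx, eval_eq']
      refine sum_mem fun d hd => ?_
      obtain ⟨i₀, ⟨j, rfl⟩, hdi⟩ := mem_ideal_span_X_image.1 hPS d hd
      have hc : P'.coeff d ∈ J := h (m + 1) P' hP' (hPx ▸ hxm) d
      obtain ⟨d', rfl⟩ : ∃ d', d = Finsupp.single (Fin.castAdd t j) 1 + d' :=
        ⟨d - Finsupp.single (Fin.castAdd t j) 1,
          (add_tsub_cancel_of_le (Finsupp.single_le_iff.2 (Nat.one_le_iff_ne_zero.2 hdi))).symm⟩
      have hdeg : Finsupp.degree d' = m := by
        have h0 : Finsupp.degree (Finsupp.single (Fin.castAdd t j) 1 + d') = m + 1 := by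
          simpa [Finsupp.degree_eq_weight_one, Pi.one_def] using hP' (mem_support_iff.1 hd)
        rw [map_add, Finsupp.degree_single] at h0
        omega
      have hprod : ∏ i, y i ^ ((Finsupp.single (Fin.castAdd t j) 1 + d' : Fin (r + t) →₀ ℕ) i) = F j * eval y (monomial d' 1) := by
        rw [eval_monomial, one_mul, Finsupp.prod_fintype _ _ (by simp)]
        simp only [Finsupp.add_apply, pow_add, Finset.prod_mul_distrib]
        congr 1
        rw [Finset.prod_eq_single (Fin.castAdd t j)]
        · simp [y]
        · intro i _ hi; simp [Finsupp.single_eq_of_ne hi]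
        · intro hi; exact absurd (Finset.mem_univ _) hi
      rw [hprod, mul_left_comm]
      refine Ideal.mul_mem_mul (Ideal.subset_span ⟨j, rfl⟩) ?_
      rw [pow_succ']
      exact Ideal.mul_mem_mul hc
        (LocalCrit.eval_mem_pow_of_isHomogeneous y (isHomogeneous_monomial _ hdeg))
  obtain ⟨P', hP', hPx, hPS⟩ := rep m x (step m hxJ)
  refine ⟨P', hP', hPx, fun d => ?_⟩
  by_contra hne
  obtain ⟨i₀, ⟨j, rfl⟩, hdi⟩ := mem_ideal_span_X_image.1 hPS _ (mem_support_iff.2 hne)
  refine hdi (Finsupp.mapDomain_of_notMem_range _ _ ?_)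
  rintro ⟨k, hk⟩
  simp [Fin.ext_iff] at hk
  omega

/-- The tail of a quasi-regular sequence is quasi-regular modulo the head. -/
theorem quasi_cancel (hq : Function.Surjective q) (hker : RingHom.ker q = Ideal.span (Set.range F))
    (h : CAlgX.IsQuasiRegular (Fin.append F a)) : CAlgX.IsQuasiRegular fun j => q (a j) := by
  classical
  set y := Fin.append F a with hy
  have hyJ : ∀ i, a i ∈ Ideal.span (Set.range y) := fun i =>
    Ideal.subset_span ⟨Fin.natAdd r i, by simp [y]⟩
  have hJmap : (Ideal.span (Set.range y)).map q = Ideal.span (Set.range fun j => q (a j)) := by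
    rw [hy, span_range_append, Ideal.map_sup, ← hker, (Ideal.map_eq_bot_iff_le_ker q).2 le_rfl, bot_sup_eq,
      Ideal.map_span, ← Set.range_comp]
    rfl
  intro n P hP heval d
  choose l hl using fun e : Fin t →₀ ℕ => hq (P.coeff e)
  let P₀ : MvPolynomial (Fin t) A := ∑ e ∈ P.support, monomial e (l e)
  have hP₀ : P₀.IsHomogeneous n := IsHomogeneous.sum _ _ _ fun e he => isHomogeneous_monomial _ (by
    have := hP (mem_support_iff.1 he)
    simpa [Finsupp.degree_eq_weight_one, Pi.one_def] using this)
  have hmap : MvPolynomial.map q P₀ = P := by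
    simp only [P₀, map_sum, map_monomial, hl]
    exact (P.as_sum).symm
  have hev : q (eval a P₀) = eval (fun j => q (a j)) P := by
    rw [← hmap, eval_map, eval₂_comp]
    rfl
  have hcoeff : q (P₀.coeff d) = P.coeff d := by rw [← hmap, coeff_map]
  cases n with
  | zero =>
    rw [← hcoeff]
    by_cases hd : d = 0
    · subst hd
      rw [hcoeff]
      have hP0 : P = C (P.coeff 0) := (totalDegree_eq_zero_iff_eq_C).1 (Nat.le_zero.1 hP.totalDegree_le)
      rw [pow_one, hP0, eval_C] at heval
      exact heval
    · rw [hcoeff, hP.coeff_eq_zero (by rwa [Ne, Finsupp.degree_eq_zero_iff])]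
      exact zero_mem _
  | succ m =>
    rw [← hev, show Ideal.span (Set.range fun j => q (a j)) = (Ideal.span (Set.range a)).map q by
      rw [Ideal.map_span, ← Set.range_comp]; rfl, ← Ideal.map_pow] at heval
    obtain ⟨z, hz, hzq⟩ := (Ideal.mem_map_iff_of_surjective q hq).1 heval
    have hle : Ideal.span (Set.range a) ≤ Ideal.span (Set.range y) :=
      Ideal.span_le.2 (Set.range_subset_iff.2 hyJ)
    have hzJ : z ∈ Ideal.span (Set.range y) ^ (m + 1 + 1) := Ideal.pow_right_mono hle _ hz
    have hx : eval a P₀ - z ∈ Ideal.span (Set.range F) := by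
      rw [← hker, RingHom.mem_ker, map_sub, hzq, sub_self]
    obtain ⟨P', hP', hPx, hP0⟩ := mem_mul_pow_of_quasi F a h m _ hx (sub_mem
      (Ideal.pow_right_mono hle _ (LocalCrit.eval_mem_pow_of_isHomogeneous a hP₀))
      (Ideal.pow_le_pow_right (Nat.le_succ _) hzJ))
    have h1 := h (m + 1) (rename (Fin.natAdd r) P₀ - P') ((hP₀.rename_isHomogeneous).sub hP') (by
      rw [map_sub, hPx, eval_rename, show y ∘ Fin.natAdd r = a from funext fun i => by simp [y],
        sub_sub_cancel]
      exact hzJ) (d.mapDomain (Fin.natAdd r))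
    rw [coeff_sub, coeff_rename_mapDomain _ (Fin.natAdd_injective t r), hP0, sub_zero] at h1
    rw [← hcoeff, ← hJmap]
    exact Ideal.mem_map_of_mem q h1

/-- Both kinds. -/
theorem seqP_cancel {k : RegImm.Kind} (hk : k = .h1 ∨ k = .quasi) (hq : Function.Surjective q)
    (hker : RingHom.ker q = Ideal.span (Set.range F)) (h : SeqP k (Fin.append F a)) :
    SeqP k fun j => q (a j) := by
  rcases hk with rfl | rfl
  · exact h1_cancel F a q hq hker h
  · exact quasi_cancel F a q hq hker h

end Groth.Agent.RegKinds
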