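import Mathlib
import Groth.Agent.RegKinds.CancelSeq
import Groth.Agent.KRegLib.Smooth
import Groth.Agent.RegImmLib.SmoothImm

/-!
# An immersion whose lift to a smooth scheme is regular is regular (kinds Koszul, H1 and quasi)
-/

set_option autoImplicit false
set_option linter.style.haveILetI false
set_option backward.isDefEq.respectTransparency false
set_option backward.isDefEq.respectTransparency.types false

universe u

open AlgebraicGeometry CategoryTheory
open Groth.Agent.KRegLib Groth.Agent.RegImmLib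

namespace Groth.Agent.RegKinds

variable {k : RegImm.Kind}

/-- Ascent along a flat map. -/
theorem NearK.map {P P' : Type u} [CommRing P] [CommRing P'] [Algebra P P'] [Module.Flat P P'] {I : Ideal P}
    {𝔭' : Ideal P'} (h : NearK k I (𝔭'.comap (algebraMap P P'))) :
    NearK k (I.map (algebraMap P P')) 𝔭' := by
  obtain ⟨g, hg, hon⟩ := h.exists_on
  let T := Localization.Away (algebraMap P P' g)
  haveI : Module.Flat P T := Module.Flat.trans P P' T
  obtain ⟨n, f, hf, hI⟩ := hon T (by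
    rw [IsScalarTower.algebraMap_apply P P' T]
    exact IsLocalization.Away.algebraMap_isUnit _)
  exact ⟨algebraMap P P' g, hg, n, f, hf, by rw [Ideal.map_map, ← IsScalarTower.algebraMap_eq P P' T]; exact hI⟩

/-- A minimal generating sequence of an ideal of kind H1 or quasi near a prime has that kind nearby. -/
theorem exists_seqP_nhd (hk : k = .h1 ∨ k = .quasi) {T : Type u} [CommRing T] (𝔓 : Ideal T) [𝔓.IsPrime] {r : ℕ}
    (y : Fin r → T) (hy : ∀ i, y i ∈ 𝔓) (d : T) (hd : d ∉ 𝔓) {n : ℕ} (e : Fin n → Localization.Away d)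
    (he : SeqP k e) (hspan : Ideal.span (Set.range e) = (Ideal.span (Set.range y)).map (algebraMap T (Localization.Away d)))
    (hind : ∀ u : Fin r → T, ∑ i, u i * y i = 0 → ∀ i, u i ∈ 𝔓) :
    ∃ G : T, G ∉ 𝔓 ∧ SeqP k fun i => algebraMap T (Localization.Away G) (y i) := by
  rcases hk with rfl | rfl
  · exact exists_h1_nhd 𝔓 y hy ⟨d, hd, n, e, he, hspan⟩ hind
  · exact Synt29.QRDescent.exists_qr_nhd 𝔓 y hy ⟨d, hd, n, e, he, hspan⟩ hind

/-- Cancellation of a part which is regular in the fibre. -/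
theorem NearK.cancel (hk : k = .h1 ∨ k = .quasi) {P P' N : Type u} [CommRing P] [CommRing P'] [CommRing N]
    [Algebra P P'] (q : P' →+* N)
    (hq : Function.Surjective q) {r : ℕ} (f : Fin r → P')
    (hker : RingHom.ker q = Ideal.span (Set.range f)) (I : Ideal P) (𝔑 : Ideal N) [𝔑.IsPrime]
    (hI : I.map ((q.comp (algebraMap P P'))) ≤ 𝔑)
    (hfib : ∀ u : Fin r → P', ∑ i, u i * f i ∈ ((𝔑.comap q).comap (algebraMap P P')).map (algebraMap P P') →
      ∀ i, u i ∈ 𝔑.comap q)
    (hK : NearK k (I.map (algebraMap P P') ⊔ Ideal.span (Set.range f)) (𝔑.comap q)) :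
    NearK k (I.map (q.comp (algebraMap P P'))) 𝔑 := by
  classical
  obtain ⟨g, hg, n, m, hm, hmK⟩ := hK
  let 𝔭 := 𝔑.comap q
  let T := Localization.Away g
  haveI : 𝔭.IsPrime := Ideal.comap_isPrime _ _
  obtain ⟨h𝔓, h𝔓c⟩ := exists_prime_of_away T 𝔭 hg
  let 𝔓 := 𝔭.map (algebraMap P' T)
  let q₀ := 𝔭.comap (algebraMap P P')
  have hIq : I.map (algebraMap P P') ≤ 𝔭 := by
    rw [← Ideal.map_map] at hI
    exact Ideal.map_le_iff_le_comap.1 hI
  have hf𝔭 : ∀ i, f i ∈ 𝔭 := fun i => by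
    show q (f i) ∈ 𝔑
    rw [(RingHom.mem_ker).1 (hker ▸ Ideal.subset_span ⟨i, rfl⟩ : f i ∈ RingHom.ker q)]
    exact zero_mem _
  have hle₀ : I.map (algebraMap P P') ⊔ Ideal.span (Set.range f) ≤ 𝔭 :=
    sup_le hIq (Ideal.span_le.2 (Set.range_subset_iff.2 hf𝔭))
  have hm𝔓 : ∀ i, m i ∈ 𝔓 := fun i =>
    Ideal.map_mono (f := algebraMap P' T) hle₀ (hmK ▸ Ideal.subset_span (Set.mem_range_self i))
  let F : Fin r → T := fun i => algebraMap P' T (f i)
  let a : I → T := fun x => algebraMap P' T (algebraMap P P' x.1)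
  have hspan : Ideal.span (Set.range F ∪ Set.range a) = Ideal.span (Set.range m) := by
    rw [Ideal.span_union, ← hmK, Ideal.map_sup, sup_comm, Ideal.map_map, Ideal.map_span, ← Set.range_comp]
    congr 1
    show Ideal.span (Set.range a) = Ideal.span (((algebraMap P' T).comp (algebraMap P P')) '' I)
    rw [show Set.range a = ((algebraMap P' T).comp (algebraMap P P')) '' I from
      (Set.image_eq_range ((algebraMap P' T).comp (algebraMap P P')) (I : Set P)).symm]
  have hind : ∀ c : Fin r → T, ∑ i, c i * F i ∈ 𝔓 * Ideal.span (Set.range m) → ∀ i, c i ∈ 𝔓 := by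
    intro c hc
    have hle : 𝔓 * Ideal.span (Set.range m) ≤
        (q₀.map (algebraMap P P')).map (algebraMap P' T) ⊔ 𝔓 * Ideal.span (Set.range F) := by
      rw [← hspan, Ideal.span_union, Ideal.mul_sup]
      refine sup_le le_sup_right ((Ideal.mul_le_right).trans ?_ |>.trans le_sup_left)
      rw [Ideal.span_le]
      rintro _ ⟨x, rfl⟩
      exact Ideal.mem_map_of_mem _ (Ideal.mem_map_of_mem _ (hIq (Ideal.mem_map_of_mem _ x.2)))
    obtain ⟨z, hz, y, hy, hzy⟩ := Submodule.mem_sup.1 (hle hc)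
    obtain ⟨w, hw, rfl⟩ : ∃ w : Fin r → T, (∀ i, w i ∈ 𝔓) ∧ ∑ i, w i * F i = y := by
      rw [← smul_eq_mul, Ideal.span, Submodule.mem_ideal_smul_span_iff_exists_sum 𝔓 F y] at hy
      obtain ⟨b, hb, hby⟩ := hy
      exact ⟨fun i => b i, hb, by rw [← hby, Finsupp.sum_fintype _ _ (by simp)]; simp⟩
    have hz' : ∑ i, (c i - w i) * F i ∈ (q₀.map (algebraMap P P')).map (algebraMap P' T) := by
      simp only [sub_mul, Finset.sum_sub_distrib]
      rw [← hzy, add_sub_cancel_right]
      exact hz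
    obtain ⟨s, hs⟩ := IsLocalization.exist_integer_multiples_of_finite (Submonoid.powers g) fun i => c i - w i
    choose u hu using hs
    have h1 : algebraMap P' T (∑ i, u i * f i) ∈ (q₀.map (algebraMap P P')).map (algebraMap P' T) := by
      rw [map_sum]
      have : ∑ i, algebraMap P' T (u i * f i) = algebraMap P' T s * ∑ i, (c i - w i) * F i := by
        rw [Finset.mul_sum]
        exact Finset.sum_congr rfl fun i _ => by rw [map_mul, hu, Algebra.smul_def, mul_assoc]
      rw [this]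
      exact Ideal.mul_mem_left _ _ hz'
    obtain ⟨s', hs', hmem⟩ := (IsLocalization.algebraMap_mem_map_algebraMap_iff (Submonoid.powers g) T _ _).1 h1
    have hu𝔭 := hfib (fun i => s' * u i) (by simpa only [Finset.mul_sum, mul_assoc] using hmem)
    intro i
    have hnot : ∀ x ∈ Submonoid.powers g, x ∉ 𝔭 := by
      rintro _ ⟨k, rfl⟩ hk
      exact hg (Ideal.IsPrime.mem_of_pow_mem inferInstance k hk)
    have h2 : algebraMap P' T (u i) ∈ 𝔓 :=
      Ideal.mem_map_of_mem _ ((Ideal.IsPrime.mem_or_mem inferInstance (hu𝔭 i)).resolve_left (hnot s' hs'))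
    rw [hu, Algebra.smul_def, Ideal.unit_mul_mem_iff_mem _ (IsLocalization.map_units T s)] at h2
    rw [← sub_add_cancel (c i) (w i)]
    exact add_mem h2 (hw i)
  -- a minimal completion of `F`
  have hex : ∃ t, ∃ (e : Fin t → I) (d : T), d ∉ 𝔓 ∧
      ∀ i, d * m i ∈ Ideal.span (Set.range (Fin.append F (a ∘ e))) := by
    have hc : ∀ i, ∃ c : (Fin r ⊕ I) →₀ T, (c.sum fun z w => w • Sum.elim F a z) = m i := fun i =>
      Finsupp.mem_span_range_iff_exists_finsupp.1 (by
        rw [Set.Sum.elim_range]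
        exact hspan.ge (Ideal.subset_span ⟨i, rfl⟩))
    choose c hc using hc
    let s : Finset I := Finset.univ.biUnion fun i => (c i).support.toRight
    refine ⟨s.card, fun j => (s.equivFin.symm j).1, 1, fun h1 => h𝔓.ne_top ((Ideal.eq_top_iff_one _).2 h1),
      fun i => ?_⟩
    rw [one_mul, ← hc i]
    refine sum_mem fun z hz => Submodule.smul_mem _ _ (Ideal.subset_span ?_)
    rcases z with z | z
    · exact ⟨Fin.castAdd _ z, by simp⟩
    · have hzs : z ∈ s := Finset.mem_biUnion.2 ⟨i, Finset.mem_univ i, Finset.mem_toRight.2 hz⟩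
      exact ⟨Fin.natAdd r (s.equivFin ⟨z, hzs⟩), by simp⟩
  obtain ⟨t, ⟨e, d, hd, hde⟩, hmin⟩ : ∃ t, (∃ (e : Fin t → I) (d : T), d ∉ 𝔓 ∧
      ∀ i, d * m i ∈ Ideal.span (Set.range (Fin.append F (a ∘ e)))) ∧ ∀ t' < t, ¬ ∃ (e : Fin t' → I) (d : T), d ∉ 𝔓 ∧
      ∀ i, d * m i ∈ Ideal.span (Set.range (Fin.append F (a ∘ e))) :=
    ⟨Nat.find hex, Nat.find_spec hex, fun t' h => Nat.find_min hex h⟩
  let y := Fin.append F (a ∘ e)
  have hym : ∀ i, y i ∈ Ideal.span (Set.range m) := fun i => by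
    rw [← hspan]
    induction i using Fin.addCases with
    | left i => exact Ideal.subset_span (Or.inl ⟨i, by simp [y]⟩)
    | right i => exact Ideal.subset_span (Or.inr ⟨e i, by simp [y]⟩)
  have hm𝔓' : Ideal.span (Set.range m) ≤ 𝔓 := Ideal.span_le.2 (Set.range_subset_iff.2 hm𝔓)
  have hindy : ∀ u : Fin (r + t) → T, ∑ i, u i * y i = 0 → ∀ i, u i ∈ 𝔓 := by
    intro u hu
    rw [Fin.sum_univ_add] at hu
    simp only [y, Fin.append_left, Fin.append_right, Function.comp_apply] at hu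
    have hright : ∀ j, u (Fin.natAdd r j) ∈ 𝔓 := by
      intro j
      by_contra hj
      obtain ⟨t', rfl⟩ : ∃ t', t = t' + 1 := ⟨t - 1, by have := j.2; omega⟩
      refine hmin t' (by omega) ⟨fun l => e (j.succAbove l), d * u (Fin.natAdd r j),
        fun h => (h𝔓.mem_or_mem h).elim hd hj, fun i => ?_⟩
      let J' := Ideal.span (Set.range (Fin.append F (a ∘ fun l => e (j.succAbove l))))
      have hF' : ∀ l, F l ∈ J' := fun l => Ideal.subset_span ⟨Fin.castAdd _ l, by simp⟩
      have ha' : ∀ l, a (e (j.succAbove l)) ∈ J' := fun l => Ideal.subset_span ⟨Fin.natAdd r l, by simp⟩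
      have hjmem : u (Fin.natAdd r j) * a (e j) ∈ J' := by
        rw [Fin.sum_univ_succAbove (fun l => u (Fin.natAdd r l) * a (e l)) j] at hu
        rw [show u (Fin.natAdd r j) * a (e j) = -((∑ l, u (Fin.castAdd (t' + 1) l) * F l) +
          ∑ l, u (Fin.natAdd r (j.succAbove l)) * a (e (j.succAbove l))) by linear_combination hu]
        exact neg_mem (add_mem (sum_mem fun l _ => Ideal.mul_mem_left _ _ (hF' l))
          (sum_mem fun l _ => Ideal.mul_mem_left _ _ (ha' l)))
      obtain ⟨v, hv⟩ := Ideal.mem_span_range_iff_exists_fun.1 (hde i)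
      show d * u (Fin.natAdd r j) * m i ∈ J'
      rw [mul_right_comm, ← hv, Finset.sum_mul]
      refine sum_mem fun l _ => ?_
      induction l using Fin.addCases with
      | left l =>
        rw [Fin.append_left, mul_assoc]
        exact Ideal.mul_mem_left _ _ (Ideal.mul_mem_right _ _ (hF' l))
      | right l =>
        rw [Fin.append_right, mul_assoc, Function.comp_apply]
        refine Ideal.mul_mem_left _ _ ?_
        by_cases hl : l = j
        · subst hl
          rw [mul_comm]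
          exact hjmem
        · obtain ⟨l', rfl⟩ := Fin.exists_succAbove_eq hl
          exact Ideal.mul_mem_right _ _ (ha' l')
    have hleft := hind (fun l => u (Fin.castAdd t l)) (by
      rw [eq_neg_of_add_eq_zero_left hu]
      refine neg_mem (sum_mem fun l _ => Ideal.mul_mem_mul (hright l) ?_)
      exact hspan ▸ Ideal.subset_span (Or.inr ⟨e l, rfl⟩))
    intro i
    induction i using Fin.addCases with
    | left i => exact hleft i
    | right i => exact hright i
  let Td := Localization.Away d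
  haveI : Module.Flat T Td := IsLocalization.flat Td (Submonoid.powers d)
  have hspy : ∀ (T' : Type u) [CommRing T'] [Algebra T T'], IsUnit (algebraMap T T' d) →
      (Ideal.span (Set.range m)).map (algebraMap T T') = (Ideal.span (Set.range y)).map (algebraMap T T') := by
    intro T' _ _ hu
    refine le_antisymm ?_ (Ideal.map_mono (Ideal.span_le.2 (Set.range_subset_iff.2 hym)))
    rw [Ideal.map_le_iff_le_comap, Ideal.span_le]
    rintro _ ⟨i, rfl⟩
    rw [SetLike.mem_coe, Ideal.mem_comap, ← Ideal.unit_mul_mem_iff_mem _ hu, ← map_mul]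
    exact Ideal.mem_map_of_mem _ (hde i)
  obtain ⟨G₁, hG₁, hG₁y⟩ := exists_seqP_nhd hk 𝔓 y (fun i => hm𝔓' (hym i)) d hd
    (fun i => algebraMap T Td (m i)) (seqP_map hm) (by
      rw [← hspy Td (IsLocalization.Away.algebraMap_isUnit d), Ideal.map_span, ← Set.range_comp]
      rfl) hindy
  let D := d * G₁
  let T' := Localization.Away D
  haveI : Module.Flat T T' := IsLocalization.flat T' (Submonoid.powers D)
  have hD : IsUnit (algebraMap T T' d) ∧ IsUnit (algebraMap T T' G₁) := by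
    rw [← IsUnit.mul_iff, ← map_mul]
    exact IsLocalization.Away.algebraMap_isUnit _
  letI : Algebra (Localization.Away G₁) T' := (IsLocalization.Away.lift (g := algebraMap T T') G₁ hD.2 : _ →+* T').toAlgebra
  haveI : IsScalarTower T (Localization.Away G₁) T' := IsScalarTower.of_algebraMap_eq fun x => by
    show algebraMap T T' x = (IsLocalization.Away.lift (g := algebraMap T T') G₁ hD.2 : Localization.Away G₁ →+* T') _
    rw [IsLocalization.Away.lift_eq]
  haveI : Module.Flat (Localization.Away G₁) T' :=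
    (Module.flat_iff_of_isLocalization (Localization.Away G₁) (Submonoid.powers G₁) T').2 inferInstance
  have hseq : SeqP k (Fin.append (fun i => algebraMap T T' (F i)) fun j => algebraMap T T' (a (e j))) := by
    convert seqP_map (S := T') hG₁y using 1
    funext i
    induction i using Fin.addCases with
    | left i => simp [y, ← IsScalarTower.algebraMap_apply T (Localization.Away G₁) T']
    | right i => simp [y, ← IsScalarTower.algebraMap_apply T (Localization.Away G₁) T']
  obtain ⟨G, hG, hGT⟩ := exists_away_away T 𝔭 hg D (fun h => (h𝔓.mem_or_mem h).elim hd hG₁) T'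
  haveI := hGT
  let N' := Localization.Away (q G)
  let q' : T' →+* N' := IsLocalization.Away.map T' N' q G
  have hq'c : q'.comp (algebraMap P' T') = (algebraMap N N').comp q := IsLocalization.map_comp _
  let f' : Fin r → T' := fun i => algebraMap T T' (F i)
  have hf' : f' = fun i => algebraMap P' T' (f i) :=
    funext fun i => (IsScalarTower.algebraMap_apply P' T T' (f i)).symm
  have hk' : RingHom.ker q' = Ideal.span (Set.range f') := by
    refine (IsLocalization.ker_map N' q (Submonoid.map_powers q G)).trans ?_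
    rw [hker, Ideal.map_span, ← Set.range_comp, hf']
    rfl
  refine ⟨q G, hG, t, _, seqP_cancel f' _ q' hk (away_map_surjective hq G) hk' hseq, ?_⟩
  have hsp : (I.map (algebraMap P P') ⊔ Ideal.span (Set.range f)).map (algebraMap P' T') =
      Ideal.span (Set.range f') ⊔ Ideal.span (Set.range fun j => algebraMap T T' (a (e j))) := by
    rw [IsScalarTower.algebraMap_eq P' T T', ← Ideal.map_map, hmK, hspy T' hD.1, span_range_append,
      Ideal.map_sup, Ideal.map_span, Ideal.map_span, ← Set.range_comp, ← Set.range_comp]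
    rfl
  have h2 := congrArg (Ideal.map q') hsp
  rw [Ideal.map_sup q' (Ideal.span (Set.range f')), (Ideal.map_eq_bot_iff_le_ker q').2 hk'.ge, bot_sup_eq, Ideal.map_map,
    hq'c, Ideal.map_span, ← Set.range_comp, ← Ideal.map_map, Ideal.map_sup, ← hker,
    (Ideal.map_eq_bot_iff_le_ker q).2 le_rfl, sup_bot_eq, Ideal.map_map (algebraMap P P') q] at h2
  exact h2

/-- Descent along a flat map of finite presentation. -/
theorem NearK.descend (hk : k ≠ .regular) {P N : Type u} [CommRing P] [CommRing N] [Algebra P N] [Module.Flat P N]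
    [Algebra.FinitePresentation P N] (I : Ideal P) (𝔑 : Ideal N) [h𝔑 : 𝔑.IsPrime]
    (hI : I.map (algebraMap P N) ≤ 𝔑) (h : NearK k (I.map (algebraMap P N)) 𝔑) :
    NearK k I (𝔑.comap (algebraMap P N)) := by
  classical
  obtain ⟨G, hG, hK⟩ := h
  let T' := Localization.Away G
  haveI : Module.Flat N T' := IsLocalization.flat T' (Submonoid.powers G)
  haveI : Module.Flat P T' := Module.Flat.trans P N T'
  haveI : Algebra.FinitePresentation N T' := IsLocalization.Away.finitePresentation G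
  haveI : Algebra.FinitePresentation P T' := Algebra.FinitePresentation.trans P N T'
  have hK' : OnK k I T' := by
    obtain ⟨n, m, hm, hmK⟩ := hK
    exact ⟨n, m, hm, by rw [IsScalarTower.algebraMap_eq P N T', ← Ideal.map_map]; exact hmK⟩
  obtain ⟨h𝔑', h𝔑c⟩ := exists_prime_of_away T' 𝔑 hG
  let q₀ : PrimeSpectrum P := ⟨𝔑.comap (algebraMap P N), Ideal.comap_isPrime _ _⟩
  have hq₀ : q₀ ∈ Set.range (PrimeSpectrum.comap (algebraMap P T')) :=
    ⟨⟨_, h𝔑'⟩, PrimeSpectrum.ext (by
      show (𝔑.map (algebraMap N T')).comap (algebraMap P T') = 𝔑.comap (algebraMap P N)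
      rw [IsScalarTower.algebraMap_eq P N T', ← Ideal.comap_comap, h𝔑c])⟩
  obtain ⟨_, ⟨_, ⟨c, rfl⟩, rfl⟩, hqc, hsub⟩ :=
    PrimeSpectrum.isBasis_basic_opens.exists_subset_of_mem_open hq₀
      (PrimeSpectrum.isOpenMap_comap_of_hasGoingDown_of_finitePresentation (R := P) (S := T')).isOpen_range
  let T₀ := Localization.Away c
  obtain ⟨T₁, _, _, hT₁⟩ : ∃ (T₁ : Type u) (_ : CommRing T₁) (_ : Algebra T' T₁),
      IsLocalization.Away (algebraMap P T' c) T₁ :=
    ⟨Localization.Away (algebraMap P T' c), inferInstance, inferInstance, inferInstance⟩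
  haveI : Module.Flat T' T₁ := IsLocalization.flat T₁ (Submonoid.powers (algebraMap P T' c))
  letI : Algebra P T₁ := ((algebraMap T' T₁).comp (algebraMap P T')).toAlgebra
  haveI : IsScalarTower P T' T₁ := IsScalarTower.of_algebraMap_eq (R := P) (S := T') (A := T₁) fun _ => rfl
  have hcu : IsUnit (algebraMap P T₁ c) := by
    rw [IsScalarTower.algebraMap_apply P T' T₁]
    exact IsLocalization.Away.algebraMap_isUnit _
  letI : Algebra T₀ T₁ := (IsLocalization.Away.lift (g := algebraMap P T₁) c hcu : T₀ →+* T₁).toAlgebra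
  haveI : IsScalarTower P T₀ T₁ := IsScalarTower.of_algebraMap_eq (R := P) (S := T₀) (A := T₁) fun x => by
    show algebraMap P T₁ x = (IsLocalization.Away.lift (g := algebraMap P T₁) c hcu : T₀ →+* T₁) (algebraMap P T₀ x)
    rw [IsLocalization.Away.lift_eq]
  haveI : Module.Flat P T₁ := Module.Flat.trans P T' T₁
  haveI : Module.Flat T₀ T₁ := (Module.flat_iff_of_isLocalization T₀ (Submonoid.powers c) T₁).2 inferInstance
  haveI : Module.FaithfullyFlat T₀ T₁ := Module.FaithfullyFlat.of_comap_surjective fun x => by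
    have hx : PrimeSpectrum.comap (algebraMap P T₀) x ∈ PrimeSpectrum.basicOpen c := by
      show _ ∈ (PrimeSpectrum.basicOpen c : Set (PrimeSpectrum P))
      rw [← PrimeSpectrum.localization_away_comap_range T₀ c]
      exact ⟨x, rfl⟩
    obtain ⟨y, hy⟩ := hsub hx
    have hyc : y ∈ PrimeSpectrum.basicOpen (algebraMap P T' c) := by
      show algebraMap P T' c ∉ y.asIdeal
      intro hmem
      rw [← hy] at hx
      exact hx hmem
    obtain ⟨z, hz⟩ : y ∈ Set.range (PrimeSpectrum.comap (algebraMap T' T₁)) := by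
      rw [PrimeSpectrum.localization_away_comap_range T₁ (algebraMap P T' c)]
      exact hyc
    refine ⟨z, PrimeSpectrum.localization_comap_injective T₀ (Submonoid.powers c) ?_⟩
    rw [← hy, ← hz, ← PrimeSpectrum.comap_comp_apply, ← PrimeSpectrum.comap_comp_apply,
      ← IsScalarTower.algebraMap_eq P T₀ T₁, ← IsScalarTower.algebraMap_eq P T' T₁]
  have hloc : IsLocK k ((I.map (algebraMap P T₀)).map (algebraMap T₀ T₁)) := fun 𝔮 h𝔮 _ => by
    haveI : IsLocalization.Away (1 : T₁) T₁ :=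
      IsLocalization.away_of_isUnit_of_bijective T₁ isUnit_one Function.bijective_id
    refine NearK.of_on 1 (fun h1 => h𝔮.ne_top ((Ideal.eq_top_iff_one _).2 h1)) T₁ ?_
    obtain ⟨n, m, hm, hmK⟩ := hK'.map T₁
    refine ⟨n, m, hm, ?_⟩
    rw [Algebra.algebraMap_self, Ideal.map_id, Ideal.map_map, ← IsScalarTower.algebraMap_eq P T₀ T₁]
    exact hmK
  obtain ⟨h𝔭₀, h𝔭₀c⟩ := exists_prime_of_away T₀ q₀.asIdeal (g := c) hqc
  obtain ⟨g, hg, hon⟩ := isLocK_of_faithfullyFlat hk (I.map (algebraMap P T₀)) hloc _ h𝔭₀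
    (Ideal.map_mono (Ideal.map_le_iff_le_comap.1 hI))
  let T₂ := Localization.Away g
  obtain ⟨G', hG', hG'T⟩ := exists_away_away T₀ q₀.asIdeal (g := c) hqc g hg T₂
  haveI := hG'T
  refine NearK.of_on G' hG' T₂ ?_
  obtain ⟨n, m, hm, hmK⟩ := hon
  exact ⟨n, m, hm, by rw [IsScalarTower.algebraMap_eq P T₀ T₂, ← Ideal.map_map]; exact hmK⟩

/-- The kernel of a presentation over the base has the kind of the kernel over a smooth algebra. -/
theorem nearK_of_smooth (hk : k ≠ .regular) {C E R : Type u} [CommRing C] [CommRing E] [CommRing R] [Algebra C E]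
    [Algebra.Smooth C E] [Algebra C R] (hR : Function.Surjective (algebraMap C R)) (Φ : E →ₐ[C] R)
    (𝔭 : Ideal E) [h𝔭p : 𝔭.IsPrime] (h𝔭 : RingHom.ker Φ.toRingHom ≤ 𝔭)
    (h : NearK k (RingHom.ker Φ.toRingHom) 𝔭) :
    NearK k (RingHom.ker (algebraMap C R)) (𝔭.comap (algebraMap C E)) := by
  by_cases hkz : k = .koszul
  · subst hkz
    exact (kReg_smooth_iff hR Φ 𝔭 h𝔭).1 h
  have hk' : k = .h1 ∨ k = .quasi := by cases k <;> simp_all
  obtain ⟨G, T, _, _, _, _, n, f, N, _, _, q, hG, hGT, hNfl, hNfp, hf, hq, hker, hK, hfib⟩ :=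
    exists_coordinates hR Φ 𝔭 h𝔭
  haveI := hGT; haveI := hNfl; haveI := hNfp
  obtain ⟨h𝔓, h𝔓c⟩ := exists_prime_of_away T 𝔭 hG
  let 𝔓 := 𝔭.map (algebraMap E T)
  haveI : Module.Flat E T := IsLocalization.flat T (Submonoid.powers G)
  let I := RingHom.ker (algebraMap C R)
  let 𝔑 := 𝔓.map q.toRingHom
  have hf𝔓 : RingHom.ker q.toRingHom ≤ 𝔓 := by
    rw [hker]
    exact le_sup_right.trans (hK.symm.trans_le (Ideal.map_mono h𝔭))
  haveI h𝔑 : 𝔑.IsPrime := Ideal.map_isPrime_of_surjective hq hf𝔓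
  have h𝔑c : 𝔑.comap q.toRingHom = 𝔓 := by
    show (𝔓.map q.toRingHom).comap q.toRingHom = 𝔓
    rw [Ideal.comap_map_of_surjective q.toRingHom hq, ← RingHom.ker_eq_comap_bot]
    exact sup_eq_left.2 hf𝔓
  have hq₀ : 𝔓.comap (algebraMap C T) = 𝔭.comap (algebraMap C E) := by
    rw [IsScalarTower.algebraMap_eq C E T, ← Ideal.comap_comap, h𝔓c]
  have hI𝔓 : I.map (algebraMap C T) ≤ 𝔓 := le_sup_left.trans (hK.symm.trans_le (Ideal.map_mono h𝔭))
  have hqa : q.toRingHom.comp (algebraMap C T) = algebraMap C N := q.comp_algebraMap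
  have h1 : NearK k (I.map (algebraMap C T) ⊔ Ideal.span (Set.range f)) (𝔑.comap q.toRingHom) := by
    rw [h𝔑c, ← hK]
    exact NearK.map (h𝔓c.symm ▸ h)
  have h2 := NearK.cancel hk' q.toRingHom hq f hker I 𝔑 (by
    rw [← Ideal.map_map]; exact Ideal.map_mono hI𝔓) (fun u hu i => h𝔑c ▸ hfib u (hq₀ ▸ h𝔑c ▸ hu) i) h1
  rw [hqa] at h2
  have h3 := NearK.descend hk I 𝔑 (by rw [← hqa, ← Ideal.map_map]; exact Ideal.map_mono hI𝔓) h2
  rwa [← hqa, ← Ideal.comap_comap, h𝔑c, hq₀] at h3

set_option maxHeartbeats 1000000 in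
/-- An immersion whose lift to a smooth scheme is regular of kind `k` is itself of that kind. -/
theorem isRegularImmersion_of_smooth_lift (hk : k ≠ .regular) {X Y S : Scheme.{u}} (p : X ⟶ S) [Smooth p]
    (i : Y ⟶ X) (j : Y ⟶ S) [IsImmersion i] [IsImmersion j] (h : i ≫ p = j)
    (hi : RegImm.IsRegularImmersion k i) : RegImm.IsRegularImmersion k j := by
  refine ⟨inferInstance, fun y => (kindAt_iff hk j y).2 ?_⟩
  have hjy : ∀ z, j z = p (i z) := fun z => by rw [← h]; rfl
  obtain ⟨U, hU, hyU, -, hcjU⟩ := exists_affine_isClosedImmersion_restrict j y ⊤ trivial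
  obtain ⟨V, hV, hyV, hVle, hciV⟩ := exists_affine_isClosedImmersion_restrict i y (p ⁻¹ᵁ U)
    (show p (i y) ∈ U from (hjy y) ▸ hyU)
  obtain ⟨hjU, hjs⟩ := Synt29.surjective_app_of_isClosedImmersion_restrict j U hU
  obtain ⟨hiV, his⟩ := Synt29.surjective_app_of_isClosedImmersion_restrict i V hV
  obtain ⟨g, g', hgg, hyg⟩ := exists_basicOpen_le_affine_inter hjU hiV y ⟨hyU, hyV⟩
  obtain ⟨a, rfl⟩ := hjs g
  obtain ⟨b, rfl⟩ := his g'
  let U' := S.basicOpen a
  have hU' : IsAffineOpen U' := hU.basicOpen a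
  let V0 := X.basicOpen (p.appLE U V hVle a * b)
  have hV0 : IsAffineOpen V0 := hV.basicOpen _
  have hV0eq : V0 = (V ⊓ p ⁻¹ᵁ U') ⊓ X.basicOpen b := by
    show X.basicOpen _ = _
    rw [Scheme.basicOpen_mul, Scheme.basicOpen_appLE]
  have hle0 : V0 ≤ p ⁻¹ᵁ U' := hV0eq.trans_le (inf_le_left.trans inf_le_right)
  have hjU' : j ⁻¹ᵁ U' = Y.basicOpen (j.app U a) := Scheme.preimage_basicOpen j a
  have hpre : i ⁻¹ᵁ V0 = j ⁻¹ᵁ U' := by
    refine le_antisymm (fun z hz => ?_) (fun z hz => ?_)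
    · show j z ∈ U'
      rw [hjy]
      exact hle0 hz
    · have h1 : z ∈ i ⁻¹ᵁ X.basicOpen b := by
        rw [Scheme.preimage_basicOpen i b, ← hgg, ← hjU']
        exact hz
      show i z ∈ V0
      rw [hV0eq]
      exact ⟨⟨X.basicOpen_le b h1, show p (i z) ∈ U' by rw [← hjy]; exact hz⟩, h1⟩
  have hyV0 : i y ∈ V0 := by
    show y ∈ i ⁻¹ᵁ V0
    rw [hpre, hjU']
    exact hyg
  have hyU' : j y ∈ U' := by rw [hjy]; exact hle0 hyV0
  haveI : IsClosedImmersion (i ∣_ V0) := isClosedImmersion_restrict_of_le i (X.basicOpen_le _)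
  haveI : IsClosedImmersion (j ∣_ U') := isClosedImmersion_restrict_of_le j (S.basicOpen_le a)
  obtain ⟨hiV0, -⟩ := Synt29.surjective_app_of_isClosedImmersion_restrict i V0 hV0
  obtain ⟨hjU'', hjU's⟩ := Synt29.surjective_app_of_isClosedImmersion_restrict j U' hU'
  letI : Algebra Γ(S, U') Γ(X, V0) := (p.appLE U' V0 hle0).hom.toAlgebra
  haveI : Algebra.Smooth Γ(S, U') Γ(X, V0) := p.smooth_appLE hU' hV0 hle0
  letI : Algebra Γ(S, U') Γ(Y, i ⁻¹ᵁ V0) := (j.appLE U' (i ⁻¹ᵁ V0) hpre.le).hom.toAlgebra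
  obtain ⟨hRs, hRker⟩ := appLE_of_eq j U' (i ⁻¹ᵁ V0) hpre hpre.le
  have hR : Function.Surjective (algebraMap Γ(S, U') Γ(Y, i ⁻¹ᵁ V0)) := hRs hjU's
  have hcomp : p.appLE U' V0 hle0 ≫ i.app V0 = j.appLE U' (i ⁻¹ᵁ V0) hpre.le := by
    subst h
    rw [Scheme.Hom.app_eq_appLE, Scheme.Hom.appLE_comp_appLE]
  let Φ : Γ(X, V0) →ₐ[Γ(S, U')] Γ(Y, i ⁻¹ᵁ V0) :=
    ⟨(i.app V0).hom, fun x => congr(($hcomp) x)⟩
  let 𝔭 := (hV0.primeIdealOf ⟨i y, hyV0⟩).asIdeal
  have hnear := nearK_of_smooth hk hR Φ 𝔭 (ker_app_le_primeIdealOf i hV0 hiV0 y hyV0)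
    (nearK_of_kindAt i y ((kindAt_iff hk i y).1 (hi.2 y)) hV0 hyV0)
  obtain ⟨γ, hγ, hon⟩ := hnear.exists_on
  have hq₀ : 𝔭.comap (algebraMap Γ(S, U') Γ(X, V0)) = (hU'.primeIdealOf ⟨j y, hyU'⟩).asIdeal := by
    have h1 := congrArg PrimeSpectrum.asIdeal
      (IsAffineOpen.comap_primeIdealOf_appLE (f := p) U' hU' V0 hV0 hle0 hyV0)
    refine h1.trans ?_
    simp only [hjy y]
  rw [hq₀] at hγ
  letI : Algebra Γ(S, U') Γ(S, S.basicOpen γ) := (S.presheaf.map (homOfLE (S.basicOpen_le γ)).op).hom.toAlgebra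
  haveI : IsLocalization.Away γ Γ(S, S.basicOpen γ) := hU'.isLocalization_basicOpen γ
  haveI : Module.Flat Γ(S, U') Γ(S, S.basicOpen γ) := IsLocalization.flat _ (Submonoid.powers γ)
  obtain ⟨m, fs, hfs, hfsI⟩ := hon Γ(S, S.basicOpen γ) (IsLocalization.Away.algebraMap_isUnit γ)
  have hyγ : j y ∈ S.basicOpen γ := by
    rw [← hU'.fromSpec_image_basicOpen γ]
    exact ⟨hU'.primeIdealOf ⟨j y, hyU'⟩, hγ, hU'.fromSpec_primeIdealOf _⟩
  refine ⟨S.basicOpen γ, hU'.basicOpen γ, hyγ, isClosedImmersion_restrict_of_le j (S.basicOpen_le γ),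
    m, fs, hfs, (app_basicOpen_props j hU' hjU'' hjU's γ).2.2.trans ?_⟩
  rw [← hRker]
  exact hfsI

end Groth.Agent.RegKinds
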