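import Groth.Agent.RegImmLib.Basic
import Groth.Agent.CAlgOdd.H1Append
import Groth.Agent.Synt29.QRDescent

/-!
# Sequences of the kinds Koszul, H1 and quasi: flat maps, appending
-/

set_option autoImplicit false
set_option linter.style.haveILetI false

universe u

open TensorProduct
open Groth.Agent.WiebeLib (IsExact)

namespace Groth.Agent.RegKinds

/-- A finite family of the kind `k` (the plain regular kind is left out). -/
def SeqP : RegImm.Kind → ∀ {R : Type u} [CommRing R] {n : ℕ}, (Fin n → R) → Prop
  | .regular, _, _, _, _ => False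
  | .koszul, _, _, _, f => IsExact f
  | .h1, _, _, _, f => CAlgX.IsH1Regular f
  | .quasi, _, _, _, f => CAlgX.IsQuasiRegular f

/-- H1 regular sequences stay H1 regular in flat algebras. -/
theorem h1_flat {A S : Type u} [CommRing A] [CommRing S] [Algebra A S] [Module.Flat A S] {c : ℕ} {f : Fin c → A}
    (hf : CAlgX.IsH1Regular f) : CAlgX.IsH1Regular fun i => algebraMap A S (f i) := by
  classical
  intro a ha
  let φ : (Fin c → A) →ₗ[A] A := Fintype.linearCombination A f
  have hex : Function.Exact ((LinearMap.ker φ).subtype.lTensor S) (φ.lTensor S) :=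
    Module.Flat.lTensor_exact S (LinearMap.exact_subtype_ker_map φ)
  let e := TensorProduct.piScalarRight A S S (Fin c)
  have he : ∀ z : S ⊗[A] (Fin c → A),
      Algebra.TensorProduct.rid A S S (φ.lTensor S z) = ∑ j, e z j * algebraMap A S (f j) := by
    intro z
    induction z using TensorProduct.induction_on with
    | zero => simp
    | tmul b v =>
      rw [LinearMap.lTensor_tmul, Algebra.TensorProduct.rid_tmul]
      simp only [φ, Fintype.linearCombination_apply, smul_eq_mul, e, TensorProduct.piScalarRight_apply,
        TensorProduct.piScalarRightHom_tmul, Algebra.smul_def, map_sum, Finset.sum_mul, map_mul]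
      exact Finset.sum_congr rfl fun j _ => by ring
    | add a b ha hb => simp only [map_add, ha, hb, Pi.add_apply, add_mul, Finset.sum_add_distrib]
  obtain ⟨w, hw⟩ := (hex (e.symm a)).1 ((Algebra.TensorProduct.rid A S S).injective (by
    rw [he, LinearEquiv.apply_symm_apply, ha, map_zero]))
  rw [← e.apply_symm_apply a, ← hw]
  clear hw
  let K := Submodule.span S {v : Fin c → S | ∃ i j : Fin c,
    v = Pi.single i (algebraMap A S (f j)) - Pi.single j (algebraMap A S (f i))}
  show e _ ∈ K
  let L : (Fin c → A) →ₗ[A] (Fin c → S) := (Algebra.linearMap A S).compLeft (Fin c)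
  have hL : Submodule.span A {v : Fin c → A | ∃ i j : Fin c, v = Pi.single i (f j) - Pi.single j (f i)} ≤
      (K.restrictScalars A).comap L := by
    refine Submodule.span_le.2 ?_
    rintro _ ⟨i, j, rfl⟩
    refine Submodule.subset_span ⟨i, j, ?_⟩
    funext l
    simp [L, Pi.single_apply, apply_ite (algebraMap A S)]
  induction w using TensorProduct.induction_on with
  | zero => simp
  | tmul b v =>
    have hv : (φ : (Fin c → A) →ₗ[A] A) v.1 = 0 := v.2
    have h1 : L v.1 ∈ K := hL (hf v.1 ((Fintype.linearCombination_apply A f v.1).symm.trans hv))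
    have h2 : e (b ⊗ₜ[A] v.1) = b • L v.1 := by
      funext l
      simp [e, L, Algebra.smul_def, mul_comm]
    rw [LinearMap.lTensor_tmul]
    show e (b ⊗ₜ[A] v.1) ∈ K
    rw [h2]
    exact K.smul_mem b h1
  | add x y hx hy => rw [map_add, map_add]; exact add_mem hx hy

theorem seqP_map {k : RegImm.Kind} {A S : Type u} [CommRing A] [CommRing S] [Algebra A S] [Module.Flat A S]
    {c : ℕ} {f : Fin c → A} (hf : SeqP k f) : SeqP k fun i => algebraMap A S (f i) := by
  cases k with
  | regular => exact hf.elim
  | koszul => exact WiebeLib.isExact_map hf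
  | h1 => exact h1_flat hf
  | quasi => exact Synt29.QRDescent.qr_flat hf

theorem seqP_ringEquiv {k : RegImm.Kind} {A S : Type u} [CommRing A] [CommRing S] (e : A ≃+* S)
    {c : ℕ} {f : Fin c → A} (hf : SeqP k f) : SeqP k fun i => e (f i) := by
  letI : Algebra A S := e.toRingHom.toAlgebra
  haveI : Module.Flat A S := RingHom.Flat.of_bijective (f := e.toRingHom) e.bijective
  exact seqP_map hf

theorem h1_mk {A B : Type u} [CommRing A] [CommRing B] {r m : ℕ} (f : Fin r → A) (q : A →+* B)
    (hq : Function.Surjective q) (hker : RingHom.ker q = Ideal.span (Set.range f)) (g : Fin m → A)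
    (hg : CAlgX.IsH1Regular fun j => q (g j)) :
    CAlgX.IsH1Regular fun j => Ideal.Quotient.mk (Ideal.span (Set.range f)) (g j) := by
  let e : B ≃+* A ⧸ Ideal.span (Set.range f) :=
    ((Ideal.quotientEquiv _ _ (RingEquiv.refl A) (by simp [hker])).trans
      (RingHom.quotientKerEquivOfSurjective hq)).symm
  have he : ∀ a, e (q a) = Ideal.Quotient.mk (Ideal.span (Set.range f)) a := fun a => by
    rw [RingEquiv.symm_apply_eq]
    rfl
  have := seqP_ringEquiv (k := .h1) e hg
  simpa only [SeqP, he] using this

/-- The pairs of kinds which compose. -/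
def Composable (k k' : RegImm.Kind) : Prop :=
  (k = .koszul ∧ k' = .koszul) ∨ ((k = .h1 ∨ k = .quasi) ∧ k' = .h1)

theorem exists_comp {k k' : RegImm.Kind} (hkk : Composable k k') {A B : Type u} [CommRing A] [CommRing B]
    {r m : ℕ} {f : Fin r → A} (hf : SeqP k f) (q : A →+* B) (hq : Function.Surjective q)
    (hker : RingHom.ker q = Ideal.span (Set.range f)) {h : Fin m → B} (hh : SeqP k' h) :
    ∃ (N : ℕ) (F : Fin N → A), SeqP k F ∧ Ideal.span (Set.range F) = (Ideal.span (Set.range h)).comap q := by
  choose l hl using fun j => hq (h j)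
  have hspan : Ideal.span (Set.range f) ⊔ Ideal.span (Set.range l) = (Ideal.span (Set.range h)).comap q := by
    have h5 : (Ideal.span (Set.range l)).map q = Ideal.span (Set.range h) := by
      rw [Ideal.map_span, ← Set.range_comp]
      exact congrArg (fun z => Ideal.span (Set.range z)) (funext hl)
    rw [← h5, Ideal.comap_map_of_surjective _ hq, ← RingHom.ker_eq_comap_bot, hker, sup_comm]
  have hh' : SeqP k' fun j => q (l j) := by simpa only [hl] using hh
  have happ : Set.range (Fin.append f l) = Set.range f ∪ Set.range l := by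
    ext x
    constructor
    · rintro ⟨i, rfl⟩
      induction i using Fin.addCases with
      | left j => exact Or.inl ⟨j, (Fin.append_left f l j).symm⟩
      | right j => exact Or.inr ⟨j, (Fin.append_right f l j).symm⟩
    · rintro (⟨j, rfl⟩ | ⟨j, rfl⟩)
      · exact ⟨_, Fin.append_left f l j⟩
      · exact ⟨_, Fin.append_right f l j⟩
  rcases hkk with ⟨rfl, rfl⟩ | ⟨hk, rfl⟩
  · exact ⟨r + m, KRegLib.appendSeq f m l, KRegLib.isExact_appendSeq hf hq hker l hh',
      (KRegLib.span_appendSeq f m l).trans hspan⟩
  · refine ⟨r + m, Fin.append f l, ?_, by rw [happ, Ideal.span_union, hspan]⟩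
    rcases hk with rfl | rfl
    · exact CAlgOdd.H1Append.isH1Regular_append f l hf (h1_mk f q hq hker l hh')
    · exact CAlgOdd.H1Append.isQuasiRegular_append f l hf (h1_mk f q hq hker l hh')

end Groth.Agent.RegKinds
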