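import Groth.Prelude.Def_AlgSpMor6
import Groth.Agent.RegKinds.FPQC
import Groth.Agent.AlgSpLib.ImmDesc
import Groth.Agent.AlgSpLib.LocP

/-!
# Regular immersions of algebraic spaces: composition and flat base change
-/

set_option autoImplicit false
set_option backward.isDefEq.respectTransparency false
set_option backward.isDefEq.respectTransparency.types false

universe u

open CategoryTheory CategoryTheory.Limits AlgebraicGeometry AlgSp

namespace Groth.Agent.RegKinds

variable {S : Scheme.{u}} {k k' : RegImm.Kind}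

theorem regImmMor_comp (hkk : Composable k k') {Z Y X : Sp S} {i : Z ⟶ Y} {j : Y ⟶ X}
    (hi : IsRegImmMor k' i) (hj : IsRegImmMor k j) : IsRegImmMor k (i ≫ j) := by
  refine ⟨MorphismProperty.comp_mem _ i j hi.1 hj.1, fun V W b fst snd hb sq => ?_⟩
  let V₁ := hj.1.pullback b
  let fj : (yon S).obj V₁ ⟶ Y := hj.1.fst b
  let sj : V₁ ⟶ V := hj.1.snd b
  have sqj : IsPullback fj ((yon S).map sj) j b := hj.1.isPullback b
  have hfj : RepWith @Etale fj := MorphismProperty.of_isPullback sqj.flip hb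
  let W₁ := hi.1.pullback fj
  let fi : (yon S).obj W₁ ⟶ Z := hi.1.fst fj
  let si : W₁ ⟶ V₁ := hi.1.snd fj
  have sqi : IsPullback fi ((yon S).map si) i fj := hi.1.isPullback fj
  have h1 := hj.2 b fj sj hb sqj
  have h2 := hi.2 fj fi si hfj sqi
  have h3 := isRegularImmersion_comp hkk h1 h2
  have sqc : IsPullback fi ((yon S).map (si ≫ sj)) (i ≫ j) b := by
    rw [Functor.map_comp]
    exact sqi.paste_vert sqj
  let e := IsPullback.isoIsPullback _ _ sq sqc
  let e₀ := (yon S).preimageIso e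
  have he : e₀.hom ≫ si ≫ sj = snd := (yon S).map_injective (by
    rw [Functor.map_comp, Functor.preimageIso_hom, Functor.map_preimage]
    exact IsPullback.isoIsPullback_hom_snd _ _ _ _)
  rw [← he, Over.comp_left]
  haveI : IsIso e₀.hom.left := ((Over.forget S).mapIso e₀).isIso_hom
  have hk : k ≠ .regular := by rcases hkk with ⟨rfl, _⟩ | ⟨rfl | rfl, _⟩ <;> simp
  exact isRegularImmersion_baseChange_all (g := 𝟙 _) (g' := e₀.hom.left) (i := (si ≫ sj).left)
    (IsPullback.of_horiz_isIso ⟨by simp⟩) (by rw [Over.comp_left]; exact h3)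

theorem repWith_isImmersion_of_regImmMor {Z X : Sp S} (hX : IsAlgSpace X) {i : Z ⟶ X}
    (hi : IsRegImmMor k i) : RepWith @IsImmersion i := by
  obtain ⟨V, b, hb, hb'⟩ := hX.atlas
  exact AlgSpLib.repWith_isImmersion_of_fppf_cover (p := b) ⟨hb.1, fun U W' c f s sq => by
    haveI : Etale s.left := hb.2 c f s sq
    haveI : Surjective s.left := hb'.2 c f s sq
    exact AlgSpLib.fppf_of_etale s.left⟩ (hi.1.isPullback b)
    ((repWith_yon_map_iff _ _).2 (hi.2 b _ _ hb (hi.1.isPullback b)).1)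

theorem regImmMor_baseChange (hk : k ≠ .regular) {Z X X' P : Sp S} {i : Z ⟶ X} {g : X' ⟶ X}
    (hX : IsAlgSpace X) (hi : IsRegImmMor k i) (hg : LocP @Flat g) {fst : P ⟶ Z} {i' : P ⟶ X'}
    (sq : IsPullback fst i' i g) : IsRegImmMor k i' := by
  have him' : RepWith @IsImmersion i' := MorphismProperty.of_isPullback sq (repWith_isImmersion_of_regImmMor hX hi)
  refine ⟨him'.1, fun V W b f s hb sq' => ?_⟩
  obtain ⟨V₀, b₀, hb₀, hb₀'⟩ := hX.atlas
  let c := b ≫ g
  let T := hb₀.rep.pullback c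
  let p : (yon S).obj T ⟶ (yon S).obj V₀ := hb₀.rep.fst c
  let q : T ⟶ V := hb₀.rep.snd c
  have hq : Etale q.left := hb₀.property_snd c
  have hqs : Surjective q.left := hb₀'.property _ _ _ (hb₀.rep.isPullback c)
  obtain ⟨p₀, hp₀⟩ := (yon S).map_surjective p
  have w : ((yon S).map q ≫ b) ≫ g = (yon S).map p₀ ≫ b₀ := by
    rw [hp₀, Category.assoc]
    exact (hb₀.rep.isPullback c).w.symm
  have hpf : Flat p₀.left := hg ((yon S).map q ≫ b) b₀ p₀
    (MorphismProperty.comp_mem _ _ _ ((repWith_yon_map_iff _ _).2 hq) hb) hb₀ w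
  let W₀ := hi.1.pullback b₀
  let f₀ : (yon S).obj W₀ ⟶ Z := hi.1.fst b₀
  let s₀ : W₀ ⟶ V₀ := hi.1.snd b₀
  have sq₀ : IsPullback f₀ ((yon S).map s₀) i b₀ := hi.1.isPullback b₀
  have h₀ := hi.2 b₀ f₀ s₀ hb₀ sq₀
  have e₁ := ((IsPullback.of_hasPullback s₀ p₀).map (yon S)).paste_horiz sq₀
  have e₂ := ((IsPullback.of_hasPullback s q).map (yon S)).paste_horiz (sq'.paste_horiz sq)
  rw [show (yon S).map q ≫ b ≫ g = (yon S).map p₀ ≫ b₀ by rw [← Category.assoc, w]] at e₂
  let e := IsPullback.isoIsPullback _ _ e₂ e₁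
  let e₀ := (yon S).preimageIso e
  have he : e₀.hom ≫ pullback.snd s₀ p₀ = pullback.snd s q := (yon S).map_injective (by
    rw [Functor.map_comp, Functor.preimageIso_hom, Functor.map_preimage]
    exact IsPullback.isoIsPullback_hom_snd _ _ _ _)
  have sT := (IsPullback.of_hasPullback s₀ p₀).map (Over.forget S)
  have hT : RegImm.IsRegularImmersion k (pullback.snd s₀ p₀).left :=
    isRegularImmersion_baseChange (g := p₀.left) hk sT h₀
  have hT' : RegImm.IsRegularImmersion k (pullback.snd s q).left := by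
    rw [← he, Over.comp_left]
    haveI : IsIso e₀.hom.left := ((Over.forget S).mapIso e₀).isIso_hom
    exact isRegularImmersion_baseChange_all (g := 𝟙 _) (g' := e₀.hom.left) (i := (pullback.snd s₀ p₀).left)
      (IsPullback.of_horiz_isIso ⟨by simp⟩) hT
  haveI : IsImmersion s.left := him'.2 b f s sq'
  exact isRegularImmersion_of_open hk s.left q.left q.left.isOpenMap _ _
    ((IsPullback.of_hasPullback s q).map (Over.forget S)) hT'

end Groth.Agent.RegKinds
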