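import Groth.Agent.RegKinds.Sp
import Groth.Agent.AlgSpLib.EtLocalInst
import Groth.Agent.S8656

/-!
# An immersion into a smooth space over the target of a Koszul morphism
-/

set_option autoImplicit false
set_option backward.isDefEq.respectTransparency false
set_option backward.isDefEq.respectTransparency.types false

universe u

open CategoryTheory CategoryTheory.Limits AlgebraicGeometry AlgSp

namespace Groth.Agent.RegKinds

variable {S : Scheme.{u}}

theorem regImmMor_koszul_of_lci {X Y P U : Sp S} (hY : IsAlgSpace Y) {f : X ⟶ Y} {g : P ⟶ Y} {e : U ⟶ X}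
    {i : U ⟶ P} (hc : i ≫ g = e ≫ f) (hf : IsLCIMor f) (hg : LocP @Smooth g) (he : IsEtaleMor e)
    (hi : RepWith @IsImmersion i) : IsRegImmMor RegImm.Kind.koszul i := by
  refine ⟨hi.1, fun V W b fst snd hb sq => ?_⟩
  obtain ⟨V₀, b₀, hb₀, hb₀'⟩ := hY.atlas
  let c := b ≫ g
  let T := hb₀.rep.pullback c
  let q : T ⟶ V := hb₀.rep.snd c
  obtain ⟨p, hp⟩ := (yon S).map_surjective (hb₀.rep.fst c)
  have hq : Etale q.left := hb₀.property_snd c
  haveI : Surjective q.left := hb₀'.property _ _ _ (hb₀.rep.isPullback c)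
  have w : ((yon S).map q ≫ b) ≫ g = (yon S).map p ≫ b₀ := by
    rw [hp, Category.assoc]
    exact (hb₀.rep.isPullback c).w.symm
  have hT : RepWith @Etale ((yon S).map q ≫ b) :=
    MorphismProperty.comp_mem _ _ _ ((repWith_yon_map_iff _ _).2 hq) hb
  have hps : Smooth p.left := hg _ b₀ p hT hb₀ w
  let W' : Over S := pullback snd q
  let s' : W' ⟶ T := pullback.snd snd q
  let a₁ : (yon S).obj W' ⟶ U := (yon S).map (pullback.fst snd q) ≫ fst
  have hfst : RepWith @Etale fst := MorphismProperty.of_isPullback sq.flip hb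
  have sT := (IsPullback.of_hasPullback snd q).map (Over.forget S)
  have ha₁ : RepWith @Etale a₁ := MorphismProperty.comp_mem _ _ _ ((repWith_yon_map_iff _ _).2
    (MorphismProperty.of_isPullback (P := @Etale) sT.flip hq)) hfst
  have w' : (a₁ ≫ e) ≫ f = (yon S).map (s' ≫ p) ≫ b₀ := by
    rw [Functor.map_comp, Category.assoc, Category.assoc, Category.assoc, ← w, Category.assoc, ← hc]
    rw [← Category.assoc fst i g, sq.w, Category.assoc, ← Category.assoc, ← Functor.map_comp,
      pullback.condition, Functor.map_comp, Category.assoc]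
  have hK := hf (a₁ ≫ e) b₀ (s' ≫ p) (he a₁ ha₁) hb₀ w'
  haveI : IsImmersion snd.left := hi.2 b fst snd sq
  haveI : IsImmersion s'.left := MorphismProperty.of_isPullback (P := @IsImmersion) sT ‹IsImmersion snd.left›
  haveI := hps
  have hreg := S8656.result (s' ≫ p).left hK p.left s'.left (Over.comp_left ..).symm
  exact isRegularImmersion_of_open (by simp) snd.left q.left q.left.isOpenMap _ _ sT hreg

end Groth.Agent.RegKinds
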